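import Cfsg.Agent.Lib.PLocal.Gross.Primitive

/-!
The square of a quaternionic reflection fixes the cosets of the centre in a class two normal
subgroup; the primitive case.
-/

set_option autoImplicit false
set_option linter.style.haveILetI false
set_option linter.unusedSectionVars false

namespace CfsgLib.PLocal.Gross

open Module Cfsg CfsgLib.Base
open scoped commutatorElement

variable {q : ℕ} [Fact q.Prime] {M : Type*} [AddCommGroup M] [Module (ZMod q) M] [Finite M]
variable {G : Type*} [Group G] [Finite G]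
variable {σ : G →* Module.End (ZMod q) M} {u : G} {n : ℕ} {s : ZMod q}

theorem sq_fixes_cosets [Nontrivial M] (H : PlaneTop σ u n s) (hq2 : q ≠ 2)
    (hinj : Function.Injective σ) (hT : σ (u ^ 2 ^ (n - 1)) ≠ 1) {r : ℕ} [Fact r.Prime]
    (hrq : r ≠ q) (C : Subgroup G) [C.Normal] (hCr : IsPGroup r C)
    (hexp : ∀ a ∈ C, a ^ r ∈ Subgroup.centralizer (C : Set G))
    (hC2 : ∀ a ∈ C, ∀ b ∈ C, ⁅a, b⁆ ∈ C ⊓ Subgroup.centralizer (C : Set G))
    (hdom : ∀ x ∈ Algebra.adjoin (ZMod q)
      (σ '' ((C ⊓ Subgroup.centralizer (C : Set G) : Subgroup G) : Set G)),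
      x ≠ 0 → Function.Injective x)
    (huZ : ∀ z ∈ C ⊓ Subgroup.centralizer (C : Set G), u * z * u⁻¹ = z) :
    ∀ x ∈ C, ⁅u ^ 2, x⁆ ∈ Subgroup.centralizer (C : Set G) := by
  classical
  have hn2 := H.two_le
  set N := 2 ^ n with hN
  set Zs := (Subgroup.centralizer (C : Set G)).subgroupOf C with hZs
  haveI : Zs.Normal := by rw [hZs]; infer_instance
  letI : CommGroup (C ⧸ Zs) :=
    { (inferInstance : Group (C ⧸ Zs)) with
      mul_comm := fun a b => by
        obtain ⟨a, rfl⟩ := QuotientGroup.mk_surjective a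
        obtain ⟨b, rfl⟩ := QuotientGroup.mk_surjective b
        rw [← QuotientGroup.mk_mul, ← QuotientGroup.mk_mul, QuotientGroup.eq, hZs,
          Subgroup.mem_subgroupOf]
        have := (hC2 _ (inv_mem b.2) _ (inv_mem a.2)).2
        simpa [commutatorElement_def, mul_assoc] using this }
  have hmk : ∀ (a b : C), (a : C ⧸ Zs) = b ↔ (a : G)⁻¹ * b ∈ Subgroup.centralizer (C : Set G) :=
    fun a b => by
      rw [QuotientGroup.eq, hZs, Subgroup.mem_subgroupOf]
      rfl
  have hmap : Zs.map (MulAut.conjNormal u : MulAut C).toMonoidHom = Zs := by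
    refine Subgroup.eq_of_le_of_card_ge ?_
      (Subgroup.card_map_of_injective (MulAut.conjNormal u : MulAut C).injective).ge
    rintro _ ⟨c, hc, rfl⟩
    rw [hZs, Subgroup.mem_subgroupOf]
    show u * (c : G) * u⁻¹ ∈ _
    exact (inferInstance : (Subgroup.centralizer (C : Set G)).Normal).conj_mem _
      (Subgroup.mem_subgroupOf.1 hc) u
  set ρ : MulAut (C ⧸ Zs) := QuotientGroup.congr Zs Zs (MulAut.conjNormal u) hmap with hρdef
  have hρpow : ∀ (k : ℕ) (c : C),
      (ρ ^ k) (c : C ⧸ Zs) = ((MulAut.conjNormal (u ^ k) c : C) : C ⧸ Zs) := by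
    intro k
    induction k with
    | zero => intro c; simp
    | succ k ih =>
      intro c
      rw [pow_succ', MulAut.mul_apply, ih, pow_succ', map_mul, MulAut.mul_apply]
      rfl
  have hρN : ρ ^ N = 1 := MulEquiv.ext fun w => by
    obtain ⟨c, rfl⟩ := QuotientGroup.mk_surjective w
    rw [hρpow, hN, H.pow_eq, map_one]
    rfl
  intro x₀ hx₀
  by_contra hne
  have hmoved₀ : (ρ ^ 2) ((⟨x₀, hx₀⟩ : C) : C ⧸ Zs) ≠ ((⟨x₀, hx₀⟩ : C) : C ⧸ Zs) := by
    intro h
    rw [hρpow, eq_comm, hmk] at h
    refine hne ?_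
    have h1 := (inferInstance : (Subgroup.centralizer (C : Set G)).Normal).conj_mem _ h x₀
    simp only [MulAut.conjNormal_apply] at h1
    simpa [commutatorElement_def, mul_assoc] using h1
  -- the orbit of a moved coset
  have hcosets : ∀ {ι : Type} [Fintype ι] (f : ι → C),
      Function.Injective (fun i => ((f i : C) : C ⧸ Zs)) →
        LinearIndependent (ZMod q) (fun i => σ (f i : G)) := by
    intro ι _ f hf
    refine independent_of_cosets hinj hrq C hCr hC2 hdom (fun i => (f i : G)) (fun i => (f i).2)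
      fun i j hij h => hij (hf ?_)
    rw [eq_comm, hmk]
    have h1 := (inferInstance : (Subgroup.centralizer (C : Set G)).Normal).conj_mem _ h (f j : G)⁻¹
    simpa [mul_assoc] using h1
  have horbit : ∀ c : C, (ρ ^ 2) (c : C ⧸ Zs) ≠ (c : C ⧸ Zs) →
      n = 2 ∧ Function.Injective (fun j : Fin 4 => (ρ ^ (j : ℕ)) (c : C ⧸ Zs)) ∧
        σ u * (∑ j : Fin 4, (-1 : ZMod q) ^ (j : ℕ) • σ (MulAut.conjNormal (u ^ (j : ℕ)) c : C)) =
        -((∑ j : Fin 4, (-1 : ZMod q) ^ (j : ℕ) • σ (MulAut.conjNormal (u ^ (j : ℕ)) c : C)) *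
          σ u) := by
    intro c hc
    set w := (c : C ⧸ Zs) with hw
    have hex : ∃ b, (ρ ^ 2 ^ b) w = w := ⟨n, by rw [← hN, hρN]; rfl⟩
    set b := Nat.find hex with hb
    have hbn : b ≤ n := Nat.find_min' hex (by rw [← hN, hρN]; rfl)
    have hper : (ρ ^ 2 ^ b) w = w := Nat.find_spec hex
    have hb2 : 2 ≤ b := by
      by_contra hlt
      refine hc ?_
      rcases (show b = 0 ∨ b = 1 by omega) with h0 | h1
      · rw [h0, pow_zero, pow_one] at hper
        rw [pow_two, MulAut.mul_apply, hper, hper]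
      · rw [h1, pow_one] at hper
        exact hper
    set L := 2 ^ b with hL
    have hinjρ : Function.Injective (fun j : Fin L => (ρ ^ (j : ℕ)) w) := by
      have key : ∀ i j : ℕ, i < j → j < L → (ρ ^ i) w ≠ (ρ ^ j) w := by
        intro i j hij hj he
        have h1 : (ρ ^ (j - i)) w = w := by
          refine (ρ ^ i).injective ?_
          rw [← MulAut.mul_apply, ← pow_add, Nat.add_sub_cancel' hij.le, he]
        let S : Subgroup (MulAut (C ⧸ Zs)) :=
          { carrier := {g | g w = w}
            one_mem' := rfl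
            mul_mem' := fun {g g'} hg hg' => by
              show g (g' w) = w
              rw [hg', hg]
            inv_mem' := fun {g} hg => by
              show g⁻¹ w = w
              conv_lhs => rw [← (hg : g w = w)]
              exact MulAut.inv_apply_self _ g w }
        have hgcd : ρ ^ Nat.gcd (j - i) L ∈ S := by
          rw [← zpow_natCast, Nat.gcd_eq_gcd_ab, zpow_add, zpow_mul, zpow_mul, zpow_natCast,
            zpow_natCast]
          exact mul_mem (zpow_mem (show ρ ^ (j - i) ∈ S from h1) _)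
            (zpow_mem (show ρ ^ L ∈ S from hper) _)
        obtain ⟨b', -, hb'⟩ := (Nat.dvd_prime_pow Nat.prime_two).1 (Nat.gcd_dvd_right (j - i) L)
        rw [hb'] at hgcd
        have h2 := Nat.find_min' hex (m := b') hgcd
        have h3 : 2 ^ b' ≤ j - i := hb' ▸ Nat.le_of_dvd (by omega) (Nat.gcd_dvd_left _ _)
        have h4 : L ≤ 2 ^ b' := Nat.pow_le_pow_right two_pos h2
        omega
      intro i j hij
      rcases lt_trichotomy (i : ℕ) j with h | h | h
      · exact absurd hij (key i j h j.2)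
      · exact Fin.ext h
      · exact absurd hij.symm (key j i h i.2)
    have hconj : ∀ j : ℕ, PlaneTop.conjPow σ u (σ (c : G)) j =
        σ ((MulAut.conjNormal (u ^ j) c : C) : G) := fun j => by
      rw [PlaneTop.conjPow, MulAut.conjNormal_apply, inv_pow, map_mul, map_mul]
    have hind : LinearIndependent (ZMod q)
        (fun j : Fin L => PlaneTop.conjPow σ u (σ (c : G)) j) := by
      simp only [hconj]
      exact hcosets (fun j : Fin L => MulAut.conjNormal (u ^ (j : ℕ)) c)
        (by simpa only [← hρpow] using hinjρ)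
    have hpm : PlaneTop.conjPow σ u (σ (c : G)) L = σ (c : G) ∨
        PlaneTop.conjPow σ u (σ (c : G)) L = -σ (c : G) := by
      set ζ := (c : G)⁻¹ * (MulAut.conjNormal (u ^ L) c : C) with hζ
      have hζZ : ζ ∈ C ⊓ Subgroup.centralizer (C : Set G) := by
        refine Subgroup.mem_inf.2 ⟨mul_mem (inv_mem c.2) (MulAut.conjNormal (u ^ L) c).2, ?_⟩
        rw [hρpow, eq_comm, hmk] at hper
        exact hper
      have hfixZ : ∀ k : ℕ, ∀ z ∈ C ⊓ Subgroup.centralizer (C : Set G),
          u ^ k * z * (u ^ k)⁻¹ = z := by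
        intro k
        induction k with
        | zero => intro z _; simp
        | succ k ih =>
          intro z hz
          rw [pow_succ', show u * u ^ k * z * (u * u ^ k)⁻¹ = u * (u ^ k * z * (u ^ k)⁻¹) * u⁻¹ by
            group, ih z hz, huZ z hz]
      have hcζ : u ^ L * (c : G) * (u ^ L)⁻¹ = c * ζ := by
        rw [hζ, mul_inv_cancel_left, MulAut.conjNormal_apply]
      have hiter : ∀ i, u ^ (L * i) * (c : G) * (u ^ (L * i))⁻¹ = c * ζ ^ i := by
        intro i
        induction i with
        | zero => simp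
        | succ i ih =>
          have h1 : u ^ (L * (i + 1)) * (c : G) * (u ^ (L * (i + 1)))⁻¹ =
              (u ^ L * (c : G) * (u ^ L)⁻¹) * (u ^ L * ζ ^ i * (u ^ L)⁻¹) := by
            rw [mul_add, mul_one, add_comm, pow_add,
              show u ^ L * u ^ (L * i) * (c : G) * (u ^ L * u ^ (L * i))⁻¹ =
                u ^ L * (u ^ (L * i) * (c : G) * (u ^ (L * i))⁻¹) * (u ^ L)⁻¹ by group, ih]
            group
          rw [h1, hcζ, hfixZ L _ (pow_mem hζZ i), mul_assoc, ← pow_succ']
      have hζN : ζ ^ 2 ^ (n - b) = 1 := by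
        have h := hiter (2 ^ (n - b))
        rw [show L * 2 ^ (n - b) = N by rw [hL, hN, ← pow_add]; congr 1; omega, hN, H.pow_eq,
          one_mul, inv_one, mul_one, left_eq_mul] at h
        exact h
      have hζr : ζ ^ r = 1 := by
        have hcomm : Commute (c : G) ζ := Subgroup.mem_centralizer_iff.1 hζZ.2 c c.2
        have h1 := hfixZ L _ ⟨pow_mem c.2 r, hexp c c.2⟩
        rw [← conj_pow, hcζ, hcomm.mul_pow, mul_eq_left] at h1
        exact h1
      rw [hconj, MulAut.conjNormal_apply, hcζ, map_mul]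
      by_cases hr2 : r = 2
      · subst hr2
        have hζk := Algebra.subset_adjoin (R := ZMod q) (Set.mem_image_of_mem σ hζZ)
        have h2 : (σ ζ - 1) * (σ ζ + 1) = 0 := by
          rw [sub_mul, one_mul, mul_add, mul_one, ← map_mul, ← pow_two, hζr, map_one]
          abel
        by_cases h0 : σ ζ - 1 = 0
        · left; rw [sub_eq_zero.1 h0, mul_one]
        · right
          have h3 : σ ζ + 1 = 0 := LinearMap.ext fun v => by
            have h4 := LinearMap.congr_fun h2 v
            rw [Module.End.mul_apply, LinearMap.zero_apply, ← map_zero (σ ζ - 1)] at h4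
            exact hdom _ (sub_mem hζk (one_mem _)) h0 h4
          rw [eq_neg_of_add_eq_zero_left h3, mul_neg_one]
      · left
        have hζ1 : ζ = 1 := orderOf_eq_one_iff.1 (Nat.eq_one_of_dvd_coprimes
          (Nat.Coprime.pow_left (n - b)
            ((Nat.coprime_primes Nat.prime_two (Fact.out : r.Prime)).2 (Ne.symm hr2)))
          (orderOf_dvd_of_pow_eq_one hζN) (orderOf_dvd_of_pow_eq_one hζr))
        rw [hζ1, map_one, mul_one]
    have hL46 : L = 4 ∨ 6 ≤ L := by
      rcases hb2.eq_or_lt with h | h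
      · left; rw [hL, ← h]; rfl
      · right
        have : 2 ^ 3 ≤ L := Nat.pow_le_pow_right two_pos h
        omega
    obtain ⟨hn, hL4, hy⟩ := H.orbit_four hq2 hT _ hL46 hind hpm
    simp only [hconj] at hy
    refine ⟨hn, ?_, ?_⟩
    · rw [hL4] at hinjρ; exact hinjρ
    · rw [hL4] at hy; exact hy
  obtain ⟨hn, -, -⟩ := horbit ⟨x₀, hx₀⟩ hmoved₀
  have hρ4 : ρ ^ 4 = 1 := by rw [show 4 = N by rw [hN, hn]; rfl, hρN]
  -- at most two orbits
  haveI : Fintype (C ⧸ Zs) := Fintype.ofFinite _
  set Mv := Finset.univ.filter (fun w : C ⧸ Zs => (ρ ^ 2) w ≠ w) with hMv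
  have hMv8 : Mv.card ≤ 8 := by
    by_contra hgt
    let orb : C ⧸ Zs → Finset (C ⧸ Zs) := fun w => Finset.univ.image fun j : Fin 4 => (ρ ^ (j : ℕ)) w
    have horb : ∀ w, (orb w).card ≤ 4 := fun w => Finset.card_image_le.trans (by simp)
    obtain ⟨w₁, hw₁⟩ : Mv.Nonempty := Finset.card_pos.1 (by omega)
    obtain ⟨w₂, hw₂, hw₂'⟩ := Finset.exists_mem_notMem_of_card_lt_card
      (s := orb w₁) (t := Mv) (by have := horb w₁; omega)
    obtain ⟨w₃, hw₃, hw₃'⟩ := Finset.exists_mem_notMem_of_card_lt_card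
      (s := orb w₁ ∪ orb w₂) (t := Mv) (by
        have := Finset.card_union_le (orb w₁) (orb w₂)
        have := horb w₁; have := horb w₂; omega)
    let w : Fin 3 → C ⧸ Zs := ![w₁, w₂, w₃]
    have hwMv : ∀ i, (ρ ^ 2) (w i) ≠ w i := by
      intro i
      fin_cases i
      · exact (Finset.mem_filter.1 hw₁).2
      · exact (Finset.mem_filter.1 hw₂).2
      · exact (Finset.mem_filter.1 hw₃).2
    have hsep : ∀ i k : Fin 3, i < k → w k ∉ orb (w i) := by
      intro i k hik
      fin_cases i <;> fin_cases k <;> simp at hik ⊢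
      · exact hw₂'
      · exact fun h => hw₃' (Finset.mem_union_left _ h)
      · exact fun h => hw₃' (Finset.mem_union_right _ h)
    choose c hc using fun i => QuotientGroup.mk_surjective (w i)
    have hO := fun i => horbit (c i) (by rw [hc]; exact hwMv i)
    let f : Fin 3 × Fin 4 → C := fun p => MulAut.conjNormal (u ^ (p.2 : ℕ)) (c p.1)
    have hf : Function.Injective (fun p => ((f p : C) : C ⧸ Zs)) := by
      rintro ⟨i, j⟩ ⟨i', j'⟩ he
      simp only [f, ← hρpow, hc] at he
      have hsym : ∀ i i' : Fin 3, ∀ j j' : Fin 4, i < i' →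
          (ρ ^ (j : ℕ)) (w i) ≠ (ρ ^ (j' : ℕ)) (w i') := by
        intro i i' j j' hlt he
        refine hsep i i' hlt (Finset.mem_image.2 ⟨⟨((j : ℕ) + (4 - j')) % 4, Nat.mod_lt _ (by omega)⟩,
          Finset.mem_univ _, ?_⟩)
        have h1 := congrArg (ρ ^ (4 - (j' : ℕ))) he
        rw [← MulAut.mul_apply, ← MulAut.mul_apply, ← pow_add, ← pow_add,
          show 4 - (j' : ℕ) + j' = 4 by have := j'.2; omega, hρ4, MulAut.one_apply,
          add_comm] at h1
        show (ρ ^ (((j : ℕ) + (4 - j')) % 4)) (w i) = w i'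
        rw [← h1, ← pow_eq_pow_mod _ hρ4]
      rcases lt_trichotomy i i' with h | h | h
      · exact absurd he (hsym i i' j j' h)
      · subst h
        refine Prod.ext rfl ((hO i).2.1 ?_)
        simpa [hc] using he
      · exact absurd he.symm (hsym i' i j' j h)
    have hind := Fintype.linearIndependent_iff.1 (hcosets f hf)
    set y : Fin 3 → Module.End (ZMod q) M := fun i =>
      ∑ j : Fin 4, (-1 : ZMod q) ^ (j : ℕ) • σ (f (i, j) : G) with hy
    have hyind : LinearIndependent (ZMod q) y := by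
      rw [Fintype.linearIndependent_iff]
      intro a ha i
      have h := hind (fun p => a p.1 * (-1) ^ (p.2 : ℕ)) (by
        rw [Fintype.sum_prod_type, ← ha]
        simp only [hy, Finset.smul_sum, smul_smul]) (i, 0)
      simpa using h
    have h2 := H.finrank_anti_le hq2 hn hT (Submodule.span (ZMod q) (Set.range y)) (fun X hX => by
      induction hX using Submodule.span_induction with
      | mem X hX =>
        obtain ⟨i, rfl⟩ := hX
        exact (hO i).2.2
      | zero => simp
      | add X Y _ _ hX hY => rw [mul_add, add_mul, hX, hY, neg_add]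
      | smul a X _ hX => rw [mul_smul_comm, smul_mul_assoc, hX, smul_neg])
    rw [finrank_span_eq_card hyind, Fintype.card_fin] at h2
    omega
  -- counting
  let F : Subgroup (C ⧸ Zs) :=
    { carrier := {w | (ρ ^ 2) w = w}
      one_mem' := map_one _
      mul_mem' := fun {a b} ha hb => by
        show (ρ ^ 2) (a * b) = a * b
        rw [map_mul, ha, hb]
      inv_mem' := fun {a} ha => by
        show (ρ ^ 2) a⁻¹ = a⁻¹
        rw [map_inv, ha] }
  have hFmem : ∀ w, w ∈ F ↔ (ρ ^ 2) w = w := fun _ => Iff.rfl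
  have hWexp : ∀ w : C ⧸ Zs, w ^ r = 1 := fun w => by
    obtain ⟨c, rfl⟩ := QuotientGroup.mk_surjective w
    rw [← QuotientGroup.mk_pow, QuotientGroup.eq_one_iff, hZs, Subgroup.mem_subgroupOf]
    exact hexp c c.2
  have hWp : IsPGroup r (C ⧸ Zs) := fun w => ⟨1, by rw [pow_one]; exact hWexp w⟩
  obtain ⟨e, he⟩ := IsPGroup.iff_card.1 hWp
  obtain ⟨i, -, hidx⟩ := (Nat.dvd_prime_pow Fact.out).1 (he ▸ F.index_dvd_card)
  obtain ⟨k, -, hk⟩ := (Nat.dvd_prime_pow Fact.out).1 (he ▸ F.card_subgroup_dvd_card)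
  have hcount : Mv.card + r ^ k = r ^ k * r ^ i := by
    rw [← hk, ← hidx, F.card_mul_index, Nat.card_eq_fintype_card (α := C ⧸ Zs),
      ← Finset.card_univ, Nat.card_eq_fintype_card, Fintype.card_subtype]
    rw [hMv, add_comm]
    simp only [hFmem]
    exact Finset.card_filter_add_card_filter_not _
  have hi1 : 1 ≤ i := by
    by_contra h0
    have : i = 0 := by omega
    subst this
    rw [pow_zero, Subgroup.index_eq_one] at hidx
    exact hmoved₀ ((hFmem _).1 (hidx ▸ Subgroup.mem_top _))
  by_cases hr2 : r = 2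
  · subst hr2
    let m : (C ⧸ Zs) →* (C ⧸ Zs) :=
      MonoidHom.mk' (fun w => ρ w * w) (fun a b => by rw [map_mul, mul_mul_mul_comm])
    have hsq : ∀ w : C ⧸ Zs, w * w = 1 := fun w => by rw [← pow_two]; exact hWexp w
    have hm2 : ∀ w, m (m w) = (ρ ^ 2) w * w := fun w => by
      show ρ (ρ w * w) * (ρ w * w) = _
      rw [map_mul, mul_assoc, ← mul_assoc (ρ w) (ρ w), hsq, one_mul, pow_two, MulAut.mul_apply]
    have hm4 : ∀ w, m (m (m (m w))) = 1 := fun w => by
      rw [hm2, hm2, map_mul, ← MulAut.mul_apply, ← pow_add, hρ4, MulAut.one_apply,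
        mul_assoc, ← mul_assoc ((ρ ^ 2) w), hsq, one_mul]
      exact hsq _
    have hker : ∀ w, w ∈ (m.comp m).ker ↔ w ∈ F := fun w => by
      rw [MonoidHom.mem_ker, MonoidHom.comp_apply, hm2, hFmem]
      exact ⟨fun h => by
        have := congrArg (· * w) h
        simpa [mul_assoc, hsq] using this, fun h => by rw [h, hsq]⟩
    have hidx2 : Nat.card (m.comp m).range = 2 ^ i := by
      rw [← Subgroup.index_ker, SetLike.ext hker, hidx]
    have hm1 : m.range ≠ ⊤ := by
      intro htop
      have hs := MonoidHom.range_eq_top.1 htop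
      refine hmoved₀ ?_
      obtain ⟨a, ha⟩ := hs ((⟨x₀, hx₀⟩ : C) : C ⧸ Zs)
      obtain ⟨b, hb⟩ := hs a
      obtain ⟨c', hc'⟩ := hs b
      obtain ⟨d, hd⟩ := hs c'
      rw [← ha, ← hb, ← hc', ← hd, hm4, map_one]
    have hm2r : (m.comp m).range < m.range := by
      refine lt_of_le_of_ne (fun w hw => by
        obtain ⟨a, ha⟩ := hw
        exact ⟨m a, ha⟩) fun heq => ?_
      have hall : ∀ w ∈ m.range, w = 1 := by
        intro w hw
        have hstep : ∀ w ∈ m.range, ∃ v ∈ m.range, m v = w := by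
          intro w hw
          rw [← heq] at hw
          obtain ⟨a, rfl⟩ := hw
          exact ⟨m a, ⟨a, rfl⟩, rfl⟩
        obtain ⟨a, ha, rfl⟩ := hstep w hw
        obtain ⟨b, hb, rfl⟩ := hstep a ha
        obtain ⟨c', hc', rfl⟩ := hstep b hb
        obtain ⟨d, rfl⟩ := hc'
        exact hm4 d
      have h1 := hall _ ⟨((⟨x₀, hx₀⟩ : C) : C ⧸ Zs), rfl⟩
      exact hmoved₀ ((hFmem _).1 ((hker _).1 (by
        rw [MonoidHom.mem_ker, MonoidHom.comp_apply, h1, map_one])))
    obtain ⟨j, -, hj⟩ := (Nat.dvd_prime_pow Nat.prime_two).1 (he ▸ m.range.card_subgroup_dvd_card)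
    have hij : i < j := by
      have h1 : Nat.card (m.comp m).range < Nat.card m.range :=
        lt_of_not_ge fun h => hm2r.ne (Subgroup.eq_of_le_of_card_ge hm2r.le h)
      rw [hidx2, hj] at h1
      exact (Nat.pow_lt_pow_iff_right one_lt_two).1 h1
    have hje : j < e := by
      have h1 : Nat.card m.range < Nat.card (C ⧸ Zs) :=
        lt_of_not_ge fun h => hm1 (Subgroup.eq_top_of_card_eq _
          (le_antisymm (Subgroup.card_le_card_group _) h))
      rw [hj, he] at h1
      exact (Nat.pow_lt_pow_iff_right one_lt_two).1 h1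
    have hek : e = k + i := by
      have h1 := F.card_mul_index
      rw [hk, hidx, he, ← pow_add] at h1
      exact (Nat.pow_right_injective le_rfl h1).symm
    rcases hi1.eq_or_lt with h1 | h1
    · -- a subgroup of index two: no transvection
      subst h1
      set X := (⟨x₀, hx₀⟩ : C) with hX
      have hcardr : Nat.card (m.comp m).range = 2 := by rw [hidx2, pow_one]
      set a := (m.comp m) (X : C ⧸ Zs) with ha
      have ha1 : a ≠ 1 := fun h => hmoved₀ ((hFmem _).1 ((hker _).1 h))
      have hrange : ∀ w ∈ (m.comp m).range, w = 1 ∨ w = a := by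
        intro w hw
        by_contra hcon
        push Not at hcon
        haveI : Fintype (m.comp m).range := Fintype.ofFinite _
        have h3 : ({1, ⟨a, X, rfl⟩, ⟨w, hw⟩} : Finset (m.comp m).range).card = 3 := by
          rw [Finset.card_insert_of_notMem, Finset.card_insert_of_notMem, Finset.card_singleton]
          · simpa [Subtype.ext_iff] using Ne.symm hcon.2
          · simp [Subtype.ext_iff, Ne.symm ha1, Ne.symm hcon.1]
        have := Finset.card_le_univ ({1, ⟨a, X, rfl⟩, ⟨w, hw⟩} : Finset (m.comp m).range)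
        rw [← Nat.card_eq_fintype_card, hcardr] at this
        omega
      have hma : m a = 1 := by
        rcases hrange (m a) ⟨m (X : C ⧸ Zs), rfl⟩ with h | h
        · exact h
        · exfalso
          have h4 := hm4 a
          rw [h, h, h, h] at h4
          exact ha1 h4
      set X1 : C := MulAut.conjNormal u X with hX1
      set X2 : C := MulAut.conjNormal (u ^ 2) X with hX2
      set A : C := X⁻¹ * X2 with hA
      have hAa : (A : C ⧸ Zs) = a := by
        rw [ha, MonoidHom.comp_apply, hm2, hρpow, hA, QuotientGroup.mk_mul, QuotientGroup.mk_inv,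
          show ((X : C ⧸ Zs))⁻¹ = (X : C ⧸ Zs) from inv_eq_of_mul_eq_one_right (hsq _), mul_comm]
      have hcom : ∀ (a b c : C), ⁅(a : G) * b, (c : G)⁆ = ⁅(a : G), (c : G)⁆ * ⁅(b : G), (c : G)⁆ :=
        fun a b c => by
          rw [commutatorElement_mul_left_eq_conj_mul,
            Subgroup.mem_centralizer_iff.1 (hC2 b b.2 c c.2).2 a a.2, mul_inv_cancel_right,
            Subgroup.mem_centralizer_iff.1 (hC2 a a.2 c c.2).2 _ (hC2 b b.2 c c.2).1]
      have hcomr : ∀ (a b c : C), ⁅(c : G), (a : G) * b⁆ = ⁅(c : G), (a : G)⁆ * ⁅(c : G), (b : G)⁆ :=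
        fun a b c => by
          rw [commutatorElement_mul_right_eq_mul_conj, mul_assoc ⁅(c : G), (a : G)⁆, mul_assoc,
            mul_assoc, mul_right_inj, ← mul_assoc,
            Subgroup.mem_centralizer_iff.1 (hC2 c c.2 b b.2).2 a a.2, mul_inv_cancel_right]
      have hconjZ : ∀ (k : ℕ) (a b : C), ⁅u ^ k * (a : G) * (u ^ k)⁻¹, u ^ k * (b : G) * (u ^ k)⁻¹⁆ =
          ⁅(a : G), (b : G)⁆ := by
        intro k a b
        induction k with
        | zero => simp
        | succ k ih =>
          rw [show u ^ (k + 1) * (a : G) * (u ^ (k + 1))⁻¹ =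
            u * (u ^ k * (a : G) * (u ^ k)⁻¹) * u⁻¹ by rw [pow_succ']; group,
            show u ^ (k + 1) * (b : G) * (u ^ (k + 1))⁻¹ =
            u * (u ^ k * (b : G) * (u ^ k)⁻¹) * u⁻¹ by rw [pow_succ']; group]
          generalize u ^ k * (a : G) * (u ^ k)⁻¹ = a' at ih ⊢
          generalize u ^ k * (b : G) * (u ^ k)⁻¹ = b' at ih ⊢
          rw [show ⁅u * a' * u⁻¹, u * b' * u⁻¹⁆ = u * ⁅a', b'⁆ * u⁻¹ by
            simp only [commutatorElement_def]; group, ih, huZ _ (hC2 a a.2 b b.2)]
      -- `[X, A] = 1`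
      have hXA : ⁅(X : G), (A : G)⁆ = 1 := by
        set X3 : C := MulAut.conjNormal (u ^ 3) X with hX3
        have e1 : ⁅(X : G), (X3 : G)⁆ = ⁅(X1 : G), (X : G)⁆ := by
          have h := hconjZ 3 X1 X
          rw [show u ^ 3 * (X1 : G) * (u ^ 3)⁻¹ = (u ^ 4) * (X : G) * (u ^ 4)⁻¹ by
            rw [hX1, MulAut.conjNormal_apply]; group,
            show u ^ 4 = 1 by rw [show 4 = N by rw [hN, hn]; rfl, hN, H.pow_eq],
            one_mul, inv_one, mul_one] at h
          rw [hX3, MulAut.conjNormal_apply]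
          exact h
        have e2 : (X3 : C ⧸ Zs) = ((X1 * A : C) : C ⧸ Zs) := by
          rw [hX3, ← hρpow, QuotientGroup.mk_mul, hAa, hX1, ← pow_one u, ← hρpow,
            show 3 = 1 + 2 from rfl, pow_add, MulAut.mul_apply]
          have h1 : (ρ ^ 2) (X : C ⧸ Zs) = (X : C ⧸ Zs) * a := by
            rw [ha, MonoidHom.comp_apply, hm2, mul_left_comm, hsq, mul_one]
          rw [h1, map_mul]
          congr 1
          rw [pow_one]
          have h2 : ρ a * a = 1 := hma
          rw [← mul_one (ρ a), ← hsq a, ← mul_assoc, h2, one_mul]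
        rw [hmk] at e2
        set z := (X3 : G)⁻¹ * ((X1 * A : C) : G) with hz
        have e3 : ⁅(X : G), ((X1 * A : C) : G)⁆ = ⁅(X : G), (X3 : G)⁆ := by
          have hzC : z ∈ C := mul_mem (inv_mem X3.2) (X1 * A).2
          rw [show ((X1 * A : C) : G) = (X3 : G) * (⟨z, hzC⟩ : C) by
            show _ = _ * z; rw [hz, mul_inv_cancel_left], hcomr,
            commutatorElement_eq_one_iff_mul_comm.2
              (Subgroup.mem_centralizer_iff.1 e2 X X.2), mul_one]
        rw [Subgroup.coe_mul, hcomr, e1] at e3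
        have e4 : ∀ a b : C, ⁅(a : G), (b : G)⁆ * ⁅(a : G), (b : G)⁆ = 1 := fun a b => by
          rw [← hcom, commutatorElement_eq_one_iff_mul_comm]
          exact (Subgroup.mem_centralizer_iff.1 (show (a : G) * a ∈ Subgroup.centralizer (C : Set G) by
            rw [← pow_two]; exact hexp a a.2) b b.2).symm
        have e5 := congrArg (⁅(X : G), (X1 : G)⁆⁻¹ * ·) e3
        simp only [inv_mul_cancel_left] at e5
        rw [e5, ← commutatorElement_inv (X : G) (X1 : G), ← mul_inv_rev, e4, inv_one]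
      -- `A` is central
      refine ha1 ?_
      rw [← hAa, QuotientGroup.eq_one_iff, hZs, Subgroup.mem_subgroupOf,
        Subgroup.mem_centralizer_iff]
      intro g hg
      refine (commutatorElement_eq_one_iff_mul_comm.1 ?_).symm
      set Y : C := ⟨g, hg⟩ with hY
      have hfix : ∀ Y : C, (ρ ^ 2) (Y : C ⧸ Zs) = (Y : C ⧸ Zs) →
          ⁅(A : G), (Y : G)⁆ = 1 := by
        intro Y hYf
        rw [hρpow, hmk] at hYf
        set Y2 : C := MulAut.conjNormal (u ^ 2) Y with hY2
        have hzC : (Y2 : G)⁻¹ * (Y : G) ∈ C := mul_mem (inv_mem Y2.2) Y.2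
        have h1 := hconjZ 2 X Y
        rw [← MulAut.conjNormal_apply, ← MulAut.conjNormal_apply, ← hX2, ← hY2] at h1
        have h2 : ⁅(X2 : G), (Y : G)⁆ = ⁅(X2 : G), (Y2 : G)⁆ := by
          rw [show (Y : G) = (Y2 : G) * (⟨_, hzC⟩ : C) by
            show _ = _ * ((Y2 : G)⁻¹ * (Y : G)); rw [mul_inv_cancel_left], hcomr,
            commutatorElement_eq_one_iff_mul_comm.2
              (Subgroup.mem_centralizer_iff.1 hYf X2 X2.2), mul_one]
        rw [h1, show (X2 : G) = (X : G) * (A : G) by
          rw [hA, Subgroup.coe_mul, Subgroup.coe_inv, mul_inv_cancel_left], hcom] at h2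
        exact (mul_eq_left.1 h2)
      have hAX : ⁅(A : G), (X : G)⁆ = 1 := by rw [← commutatorElement_inv, hXA, inv_one]
      by_cases hYF : (Y : C ⧸ Zs) ∈ F
      · exact hfix Y ((hFmem _).1 hYF)
      · have hin : ((X⁻¹ * Y : C) : C ⧸ Zs) ∈ F := by
          rw [QuotientGroup.mk_mul, QuotientGroup.mk_inv]
          exact (Subgroup.mul_mem_iff_of_index_two (by rw [hidx, pow_one])).2
            (iff_of_false (fun h => hmoved₀ ((hFmem _).1 (inv_mem_iff.1 h))) hYF)
        have := hfix _ ((hFmem _).1 hin)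
        rw [show (g : G) = (X : G) * ((X⁻¹ * Y : C) : G) by
          rw [Subgroup.coe_mul, Subgroup.coe_inv, mul_inv_cancel_left], hcomr, hAX, one_mul]
        exact this
    · have h4 : 4 ≤ 2 ^ i := (show (4 : ℕ) = 2 ^ 2 from rfl) ▸ Nat.pow_le_pow_right two_pos h1
      have h16 : 16 ≤ 2 ^ k * 2 ^ i := by
        rw [← pow_add, show (16 : ℕ) = 2 ^ 4 from rfl]
        exact Nat.pow_le_pow_right two_pos (by omega)
      nlinarith
  · have hrq3 : r ≠ 3 := by rw [← H.three hn]; exact hrq
    have hr4 : r ≠ 4 := fun h => absurd (h ▸ (Fact.out : r.Prime)) (by decide)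
    have hr5 : 5 ≤ r := by
      have := (Fact.out : r.Prime).two_le
      omega
    have hri : r ≤ r ^ i := Nat.le_self_pow (by omega) r
    rcases Nat.eq_zero_or_pos k with hk0 | hk0
    · subst hk0
      rw [pow_zero, one_mul] at hcount
      have hi : i = 1 := by
        by_contra hne2
        have : r ^ 2 ≤ r ^ i := Nat.pow_le_pow_right (by omega) (by omega)
        nlinarith
      subst hi
      -- `C` modulo its centre is cyclic
      have hcardW : Nat.card (C ⧸ Zs) = r := by
        rw [← F.card_mul_index, hk, hidx, pow_zero, one_mul, pow_one]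
      haveI : IsCyclic (C ⧸ Zs) := isCyclic_of_prime_card hcardW
      obtain ⟨g, hg⟩ := IsCyclic.exists_generator (α := C ⧸ Zs)
      obtain ⟨c, rfl⟩ := QuotientGroup.mk_surjective g
      have hab : ∀ a : C, ∃ z ∈ Subgroup.centralizer (C : Set G), ∃ j : ℤ,
          (a : G) = (c : G) ^ j * z := by
        intro a
        obtain ⟨j, hj⟩ := Subgroup.mem_zpowers_iff.1 (hg (a : C ⧸ Zs))
        rw [← QuotientGroup.mk_zpow, hmk] at hj
        exact ⟨_, hj, j, by rw [Subgroup.coe_zpow, mul_inv_cancel_left]⟩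
      refine hmoved₀ ?_
      have hX : (⟨x₀, hx₀⟩ : C) ∈ Zs := by
        rw [hZs, Subgroup.mem_subgroupOf, Subgroup.mem_centralizer_iff]
        intro b hb
        obtain ⟨z, hz, j, hj⟩ := hab ⟨b, hb⟩
        obtain ⟨z', hz', j', hj'⟩ := hab ⟨x₀, hx₀⟩
        have e1 : Commute ((c : G) ^ j) z' :=
          (Subgroup.mem_centralizer_iff.1 hz' _ (zpow_mem c.2 j))
        have hz'C : z' ∈ C := by
          have : z' = ((c : G) ^ j')⁻¹ * x₀ := by
            rw [show x₀ = (c : G) ^ j' * z' from hj', inv_mul_cancel_left]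
          rw [this]; exact mul_mem (inv_mem (zpow_mem c.2 j')) hx₀
        have e2 : Commute z ((c : G) ^ j') :=
          (Subgroup.mem_centralizer_iff.1 hz _ (zpow_mem c.2 j')).symm
        have e3 : Commute z z' := (Subgroup.mem_centralizer_iff.1 hz z' hz'C).symm
        have e4 := ((((Commute.refl (c : G)).zpow_zpow j j').mul_right e1).mul_left
          (e2.mul_right e3)).eq
        rw [← hj, ← hj'] at e4
        exact e4
      rw [(QuotientGroup.eq_one_iff _).2 hX, map_one]
    · have : r ≤ r ^ k := Nat.le_self_pow (by omega) r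
      nlinarith

end CfsgLib.PLocal.Gross
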