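import Cfsg.Agent.Lib.GrossFpf.Projective

/-!
In characteristic two an element of order `N = 2 ^ n` of deficient degree on an irreducible
space of odd dimension, whose involution has a single trivial constituent, has dimension `1`
or `N - 1`.
-/

set_option autoImplicit false
set_option linter.style.haveILetI false
set_option linter.unusedSectionVars false

namespace CfsgLib.PLocal.Gross

open Module

variable {Ω : Type*} [Field Ω] {U : Type*} [AddCommGroup U] [Module Ω U]

/-- Kernels of a nilpotent operator with one-dimensional kernel. -/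
theorem finrank_ker_pow_le [FiniteDimensional Ω U] (s : End Ω U)
    (h1 : finrank Ω (LinearMap.ker s) ≤ 1) (j : ℕ) : finrank Ω (LinearMap.ker (s ^ j)) ≤ j := by
  induction j with
  | zero => simp [Module.End.one_eq_id]
  | succ j ih =>
    let f : LinearMap.ker (s ^ (j + 1)) →ₗ[Ω] LinearMap.ker (s ^ j) :=
      s.restrict fun x hx => by
        rw [LinearMap.mem_ker] at hx ⊢
        rw [← Module.End.mul_apply, ← pow_succ]
        exact hx
    have h2 := f.finrank_range_add_finrank_ker
    have h3 : finrank Ω (LinearMap.range f) ≤ j := (Submodule.finrank_le _).trans ih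
    have h4 : finrank Ω (LinearMap.ker f) ≤ finrank Ω (LinearMap.ker s) := by
      refine LinearMap.finrank_le_finrank_of_injective
        (f := ((LinearMap.ker (s ^ (j + 1))).subtype.comp (LinearMap.ker f).subtype).codRestrict
          (LinearMap.ker s) fun x => ?_) fun a b hab => ?_
      · exact congrArg Subtype.val x.2
      · exact Subtype.ext (Subtype.ext (congrArg (fun z : LinearMap.ker s => (z : U)) hab))
    omega

/-- If the kernels of powers stop growing below `h`, the power `h` already vanishes. -/
theorem pow_eq_zero_or_le_finrank_ker [FiniteDimensional Ω U] (s : End Ω U) {N : ℕ}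
    (hnil : s ^ N = 0) :
    ∀ h, s ^ h = 0 ∨ h ≤ finrank Ω (LinearMap.ker (s ^ h)) := by
  intro h
  induction h with
  | zero => exact Or.inr (Nat.zero_le _)
  | succ h ih =>
    rcases ih with ih | ih
    · exact Or.inl (by rw [pow_succ, ih, zero_mul])
    by_cases he : LinearMap.ker (s ^ (h + 1)) ≤ LinearMap.ker (s ^ h)
    · left
      have key : ∀ k, LinearMap.ker (s ^ (h + k)) ≤ LinearMap.ker (s ^ h) := by
        intro k
        induction k with
        | zero => exact le_rfl
        | succ k ihk =>
          intro x hx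
          rw [← add_assoc, pow_succ, LinearMap.mem_ker, Module.End.mul_apply] at hx
          have h1 := ihk (x := s x) hx
          refine he ?_
          rw [LinearMap.mem_ker, pow_succ, Module.End.mul_apply]
          exact h1
      refine LinearMap.ext fun x => ?_
      have h1 := key N (x := x) (by simp [pow_add, hnil])
      rw [LinearMap.mem_ker] at h1
      rw [pow_succ', Module.End.mul_apply, h1, map_zero]
      rfl
    · right
      have hle : LinearMap.ker (s ^ h) ≤ LinearMap.ker (s ^ (h + 1)) := fun x hx => by
        rw [LinearMap.mem_ker] at hx ⊢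
        rw [pow_succ', Module.End.mul_apply, hx, map_zero]
      have := Submodule.finrank_lt_finrank_of_lt (lt_of_le_not_ge hle he)
      omega

/-- The dimension of a deficient space with one trivial constituent for the involution. -/
theorem finrank_eq_one_or [FiniteDimensional Ω U] (s : End Ω U) {h : ℕ} (hh : 1 ≤ h)
    (hs : s ^ (2 * h - 1) = 0) (hodd : Odd (finrank Ω U))
    (hcodim : ∀ v₁ ∈ LinearMap.ker (s ^ h), ∀ v₂ ∈ LinearMap.ker (s ^ h),
      v₂ ∉ LinearMap.range (s ^ h) →
        v₁ ∈ LinearMap.range (s ^ h) ⊔ Submodule.span Ω {v₂}) :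
    finrank Ω U = 1 ∨ (finrank Ω U = 2 * h - 1 ∧ s ^ (2 * h - 2) ≠ 0) := by
  classical
  set K := LinearMap.ker (s ^ h) with hK
  set I := LinearMap.range (s ^ h) with hI
  have h2 : s ^ h * s ^ h = 0 := by
    rw [← pow_add, show h + h = (2 * h - 1) + 1 by omega, pow_succ, hs, zero_mul]
  have hIK : I ≤ K := by
    rintro _ ⟨u, rfl⟩
    rw [hK, LinearMap.mem_ker, ← Module.End.mul_apply, h2]
    rfl
  set r := finrank Ω I with hr
  have hrn : r + finrank Ω K = finrank Ω U := LinearMap.finrank_range_add_finrank_ker (s ^ h)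
  have hKr : finrank Ω K ≤ r + 1 := by
    by_cases hex : ∃ v ∈ K, v ∉ I
    · obtain ⟨v, hv, hvI⟩ := hex
      have hle : K ≤ I ⊔ Submodule.span Ω {v} := fun w hw => hcodim w hw v hv hvI
      refine (Submodule.finrank_mono hle).trans ?_
      refine (Submodule.finrank_add_le_finrank_add_finrank _ _).trans ?_
      have := finrank_span_singleton (K := Ω) (v := v) (fun h0 => hvI (h0 ▸ I.zero_mem))
      omega
    · push Not at hex
      exact (Submodule.finrank_mono hex).trans (Nat.le_succ r)
  have hKr' : finrank Ω K = r + 1 := by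
    have := Submodule.finrank_mono hIK
    obtain ⟨m, hm⟩ := hodd
    omega
  -- `s` maps `K` onto `I`
  have hsK : ∀ x ∈ K, s x ∈ K := fun x hx => by
    rw [hK, LinearMap.mem_ker] at hx ⊢
    rw [← Module.End.mul_apply, ← pow_succ, pow_succ', Module.End.mul_apply, hx, map_zero]
  have hsKI : K.map s ≤ I := by
    by_contra hne
    obtain ⟨w, hw, hwI⟩ := SetLike.not_le_iff_exists.1 hne
    obtain ⟨x, hx, rfl⟩ := Submodule.mem_map.1 hw
    -- `s x ∉ I`, so `x ∈ I + span (s x)` and `K = s K + I`
    have hgen : ∀ k ∈ K, ∃ i ∈ I, ∃ c : Ω, k = i + c • s x := by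
      intro k hk
      obtain ⟨i, hi, y, hy, rfl⟩ := Submodule.mem_sup.1 (hcodim k hk (s x) (hsK x hx) hwI)
      obtain ⟨c, rfl⟩ := Submodule.mem_span_singleton.1 hy
      exact ⟨i, hi, c, rfl⟩
    have hsI : ∀ i ∈ I, s i ∈ I := by
      rintro _ ⟨u, rfl⟩
      exact ⟨s u, by rw [← Module.End.mul_apply, ← pow_succ, pow_succ', Module.End.mul_apply]⟩
    obtain ⟨i, hi, c, hic⟩ := hgen x hx
    -- `(1 - c s) x ∈ I`, and `1 - c s` is invertible
    have key : ∀ j, ∃ i' ∈ I, x = i' + c ^ j • (s ^ j) x := by
      intro j
      induction j with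
      | zero => exact ⟨0, I.zero_mem, by simp⟩
      | succ j ihj =>
        obtain ⟨i', hi', hij⟩ := ihj
        have hsjI : ∀ m, (s ^ m) i ∈ I := by
          intro m
          induction m with
          | zero => simpa using hi
          | succ m ihm => rw [pow_succ', Module.End.mul_apply]; exact hsI _ ihm
        refine ⟨i' + c ^ j • (s ^ j) i, I.add_mem hi' (I.smul_mem _ (hsjI j)), ?_⟩
        conv_lhs => rw [hij]
        conv_lhs => arg 2; arg 2; rw [hic]
        rw [map_add, map_smul, smul_add, smul_smul, ← pow_succ, ← Module.End.mul_apply,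
          ← pow_succ, add_assoc]
    obtain ⟨i', hi', hx'⟩ := key (2 * h - 1)
    rw [hs, LinearMap.zero_apply, smul_zero, add_zero] at hx'
    exact hwI (hsI _ (hx' ▸ hi'))
  have hIsK : I ≤ K.map s := by
    rintro _ ⟨u, rfl⟩
    refine Submodule.mem_map.2 ⟨(s ^ (h - 1)) u, ?_, ?_⟩
    · rw [hK, LinearMap.mem_ker, ← Module.End.mul_apply, ← pow_add,
        show h + (h - 1) = 2 * h - 1 by omega, hs]
      rfl
    · rw [← Module.End.mul_apply, ← pow_succ', Nat.sub_add_cancel hh]
  have hker : finrank Ω (LinearMap.ker s) ≤ 1 := by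
    have h3 := (s.domRestrict K).finrank_range_add_finrank_ker
    rw [LinearMap.range_domRestrict, le_antisymm hsKI hIsK, ← hr, hKr'] at h3
    have h4 : finrank Ω (LinearMap.ker s) ≤ finrank Ω (LinearMap.ker (s.domRestrict K)) := by
      have hle : LinearMap.ker s ≤ K := fun x hx => by
        rw [hK, LinearMap.mem_ker, ← Nat.sub_add_cancel hh, pow_succ, Module.End.mul_apply,
          LinearMap.mem_ker.1 hx, map_zero]
      refine LinearMap.finrank_le_finrank_of_injective
        (f := ((LinearMap.ker s).subtype.codRestrict K fun x => hle x.2).codRestrict _ fun x => ?_)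
        fun a b hab => ?_
      · exact x.2
      · exact Subtype.ext (congrArg (fun z : LinearMap.ker (s.domRestrict K) => ((z : K) : U)) hab)
    omega
  have hle : r + 1 ≤ h := hKr' ▸ finrank_ker_pow_le s hker h
  rcases pow_eq_zero_or_le_finrank_ker s hs h with h0 | hge
  · left
    have hI0 : r = 0 := by
      rw [hr, hI, h0, LinearMap.range_zero, finrank_bot]
    omega
  · right
    refine ⟨by rw [← hK] at hge; omega, fun h0 => ?_⟩
    have h5 := finrank_ker_pow_le s hker (2 * h - 2)
    rw [h0, LinearMap.ker_zero, finrank_top] at h5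
    rw [← hK] at hge
    omega

end CfsgLib.PLocal.Gross
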