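import Mathlib

/-!
The operators of a normal abelian subgroup of order prime to the characteristic generate a field,
or they split the space into pieces permuted by the group.
-/

set_option autoImplicit false
set_option linter.style.haveILetI false
set_option linter.unusedSectionVars false

namespace CfsgLib.PLocal.Gross

open Module

variable {q : ℕ} [Fact q.Prime] {M : Type*} [AddCommGroup M] [Module (ZMod q) M] [Finite M]
variable {G : Type*} [Group G]

theorem exists_splitting (σ : G →* Module.End (ZMod q) M) (A : Subgroup G) [A.Normal] [Finite A]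
    (hA : ∀ a ∈ A, ∀ b ∈ A, a * b = b * a) (hcop : (Nat.card A).Coprime q) :
    (∀ x ∈ Algebra.adjoin (ZMod q) (σ '' (A : Set G)), x ≠ 0 → Function.Injective x) ∨
      ∃ S : Finset (Module.End (ZMod q) M), 2 ≤ S.card ∧ (∑ e ∈ S, e = 1) ∧
        (∀ e ∈ S, e * e = e ∧ e ≠ 0) ∧ (∀ e ∈ S, ∀ f ∈ S, e ≠ f → e * f = 0) ∧
        ∀ g : G, ∀ e ∈ S, σ g * e * σ g⁻¹ ∈ S := by
  classical
  set k := Algebra.adjoin (ZMod q) (σ '' (A : Set G)) with hk
  refine or_iff_not_imp_left.2 fun hnot => ?_
  push Not at hnot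
  obtain ⟨x, hx, hx0, hxi⟩ := hnot
  haveI : Nontrivial M := by
    by_contra h
    rw [not_nontrivial_iff_subsingleton] at h
    exact hx0 (LinearMap.ext fun v => Subsingleton.elim _ _)
  haveI : Finite (Module.End (ZMod q) M) := DFunLike.finite _
  haveI : Fintype (Module.End (ZMod q) M) := Fintype.ofFinite _
  haveI : CharP (Module.End (ZMod q) M) q :=
    charP_of_injective_algebraMap (algebraMap (ZMod q) (Module.End (ZMod q) M)).injective q
  have hcomm : ∀ a ∈ k, ∀ b ∈ k, Commute a b := by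
    have h1 : k ≤ Subalgebra.centralizer (ZMod q) (σ '' (A : Set G)) :=
      Algebra.adjoin_le (by
        rintro _ ⟨a, ha, rfl⟩ _ ⟨b, hb, rfl⟩
        rw [← map_mul, ← map_mul, hA b hb a ha])
    have h2 : k ≤ Subalgebra.centralizer (ZMod q) (k : Set (Module.End (ZMod q) M)) :=
      Algebra.adjoin_le (fun y hy z hz => ((h1 hz) y hy).symm)
    exact fun a ha b hb => ((h2 ha) b hb).symm
  set m := (Nat.card A).totient with hm
  have hm1 : 1 ≤ m := Nat.totient_pos.2 Nat.card_pos
  have hmod : q ^ m ≡ 1 [MOD Nat.card A] := Nat.ModEq.pow_totient hcop.symm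
  set Q := q ^ m with hQdef
  have hQ2 : 2 ≤ Q := by
    calc 2 ≤ q := (Fact.out : q.Prime).two_le
      _ = q ^ 1 := (pow_one q).symm
      _ ≤ Q := Nat.pow_le_pow_right (Fact.out : q.Prime).pos hm1
  have hfrob : ∀ y ∈ k, y ^ Q = y := by
    intro y hy
    induction hy using Algebra.adjoin_induction with
    | mem y hy =>
      obtain ⟨a, ha, rfl⟩ := hy
      obtain ⟨j, hj⟩ : Nat.card A ∣ Q - 1 := (Nat.modEq_iff_dvd' (by omega)).1 hmod.symm
      have h1 : a ^ Nat.card A = 1 := congrArg Subtype.val (pow_card_eq_one' (x := (⟨a, ha⟩ : A)))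
      rw [← map_pow, ← Nat.sub_add_cancel (show 1 ≤ Q by omega), pow_succ, hj, pow_mul, h1,
        one_pow, one_mul]
    | algebraMap c => rw [← map_pow, hQdef, ZMod.pow_card_pow]
    | add y z hy hz ihy ihz =>
      rw [hQdef, add_pow_char_pow_of_commute q m (hcomm y hy z hz), ← hQdef, ihy, ihz]
    | mul y z hy hz ihy ihz => rw [(hcomm y hy z hz).mul_pow, ihy, ihz]
  -- atoms
  set Atom := fun e : Module.End (ZMod q) M =>
    e ∈ k ∧ e * e = e ∧ e ≠ 0 ∧ ∀ f ∈ k, f * f = f → e * f = e ∨ e * f = 0 with hAtom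
  have hbelow : ∀ g ∈ k, g * g = g → g ≠ 0 → ∃ e, Atom e ∧ e * g = e := by
    intro g hg hgg hg0
    obtain ⟨e, ⟨he, hee, he0, heg⟩, hmin⟩ := Set.exists_min_image
      {e : Module.End (ZMod q) M | e ∈ k ∧ e * e = e ∧ e ≠ 0 ∧ e * g = e}
      (fun e => Nat.card (LinearMap.range e)) (Set.toFinite _) ⟨g, hg, hgg, hg0, hgg⟩
    refine ⟨e, ⟨he, hee, he0, fun f hf hff => ?_⟩, heg⟩
    by_contra hne
    push Not at hne
    have hfe : e * f * (e * f) = e * f := by
      rw [(hcomm f hf e he).mul_mul_mul_comm, hee, hff]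
    have hfg : e * f * g = e * f := by
      rw [mul_assoc, (hcomm f hf g hg).eq, ← mul_assoc, heg]
    have h1 := hmin (e * f) ⟨mul_mem he hf, hfe, hne.2, hfg⟩
    have hle : LinearMap.range (e * f) ≤ LinearMap.range e := LinearMap.range_comp_le_range f e
    have heq : LinearMap.range (e * f) = LinearMap.range e :=
      SetLike.coe_injective (Set.eq_of_subset_of_ncard_le hle (by
        simpa [← Nat.card_coe_set_eq] using h1) (Set.toFinite _))
    refine hne.1 (LinearMap.ext fun v => ?_)
    obtain ⟨w, hw⟩ : e v ∈ LinearMap.range (e * f) := heq ▸ LinearMap.mem_range_self e v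
    have h2 : (e * f) (e v) = e v := by
      conv_lhs => rw [← hw]
      rw [← Module.End.mul_apply, hfe, hw]
    rw [← h2, ← Module.End.mul_apply (e * f) e, mul_assoc e f e, (hcomm f hf e he).eq, ← mul_assoc,
      hee]
  set S := Finset.univ.filter Atom with hS
  have hSmem : ∀ e, e ∈ S ↔ Atom e := fun e => by simp [hS]
  have horth : ∀ e ∈ S, ∀ f ∈ S, e ≠ f → e * f = 0 := by
    intro e he f hf hne
    rw [hSmem] at he hf
    rcases he.2.2.2 f hf.1 hf.2.1 with h | h
    · rcases hf.2.2.2 e he.1 he.2.1 with h' | h'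
      · exact absurd (h.symm.trans ((hcomm e he.1 f hf.1).eq.trans h')) hne
      · rw [(hcomm e he.1 f hf.1).eq]; exact h'
    · exact h
  have hsum : ∑ e ∈ S, e = 1 := by
    by_contra hne
    set g := 1 - ∑ e ∈ S, e with hg
    have hgk : g ∈ k := sub_mem (one_mem _) (sum_mem fun e he => ((hSmem e).1 he).1)
    have hmul : ∀ e ∈ S, e * g = 0 := fun e he => by
      rw [hg, mul_sub, mul_one, Finset.mul_sum, Finset.sum_eq_single e
        (fun f hf hfe => horth e he f hf (Ne.symm hfe)) (fun h => absurd he h),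
        ((hSmem e).1 he).2.1, sub_self]
    have hgg : g * g = g := by
      conv_lhs => arg 1; rw [hg]
      rw [sub_mul, one_mul, Finset.sum_mul, Finset.sum_eq_zero hmul, sub_zero]
    obtain ⟨a, ha, hag⟩ := hbelow g hgk hgg (sub_ne_zero.2 (Ne.symm hne))
    exact ha.2.2.1 (hag.symm.trans (hmul a ((hSmem a).2 ha)))
  refine ⟨S, ?_, hsum, fun e he => ⟨((hSmem e).1 he).2.1, ((hSmem e).1 he).2.2.1⟩, horth, ?_⟩
  · set e₀ := x ^ (Q - 1) with he₀
    have he₀k : e₀ ∈ k := pow_mem hx _
    have hxe : x * e₀ = x := by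
      rw [he₀, ← pow_succ', Nat.sub_add_cancel (by omega), hfrob x hx]
    have hee : e₀ * e₀ = e₀ := by
      nth_rewrite 2 [he₀]
      rw [show Q - 1 = (Q - 2) + 1 by omega, pow_succ', ← mul_assoc, (hcomm e₀ he₀k x hx).eq, hxe,
        ← pow_succ', ← show Q - 1 = (Q - 2) + 1 by omega]
    have he₀0 : e₀ ≠ 0 := fun h => hx0 (by rw [← hxe, h, mul_zero])
    have he₀1 : e₀ ≠ 1 := fun h => hxi fun v w hvw => by
      have h1 := congrArg (x ^ (Q - 2)) hvw
      rw [← Module.End.mul_apply, ← Module.End.mul_apply, ← pow_succ,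
        show Q - 2 + 1 = Q - 1 by omega, ← he₀, h] at h1
      exact h1
    by_contra hcard
    rcases Nat.lt_or_ge S.card 1 with h0 | h1
    · rw [Finset.card_eq_zero.1 (by omega : S.card = 0), Finset.sum_empty] at hsum
      exact zero_ne_one hsum
    · obtain ⟨a, ha⟩ := Finset.card_eq_one.1 (show S.card = 1 by omega)
      have ha1 : a = 1 := by rwa [ha, Finset.sum_singleton] at hsum
      have hat := (hSmem a).1 (ha ▸ Finset.mem_singleton_self a)
      rcases hat.2.2.2 e₀ he₀k hee with h | h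
      · rw [ha1, one_mul] at h; exact he₀1 h
      · rw [ha1, one_mul] at h; exact he₀0 h
  · intro g e he
    rw [hSmem] at he ⊢
    have hkg : ∀ g : G, ∀ y ∈ k, σ g * y * σ g⁻¹ ∈ k := by
      intro g y hy
      induction hy using Algebra.adjoin_induction with
      | mem y hy =>
        obtain ⟨a, ha, rfl⟩ := hy
        rw [← map_mul, ← map_mul]
        exact Algebra.subset_adjoin ⟨_, Subgroup.Normal.conj_mem inferInstance a ha g, rfl⟩
      | algebraMap c =>
        rw [← Algebra.commutes, mul_assoc, ← map_mul, mul_inv_cancel, map_one, mul_one]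
        exact Subalgebra.algebraMap_mem _ c
      | add y z hy hz ihy ihz => rw [mul_add, add_mul]; exact add_mem ihy ihz
      | mul y z hy hz ihy ihz =>
        have h1 : σ g * (y * z) * σ g⁻¹ = σ g * y * σ g⁻¹ * (σ g * z * σ g⁻¹) := by
          calc σ g * (y * z) * σ g⁻¹ = σ g * y * 1 * (z * σ g⁻¹) := by simp [mul_assoc]
            _ = σ g * y * (σ g⁻¹ * σ g) * (z * σ g⁻¹) := by
                rw [← map_mul σ g⁻¹ g, inv_mul_cancel, map_one]
            _ = _ := by simp [mul_assoc]
        rw [h1]; exact mul_mem ihy ihz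
    have hgi : σ g⁻¹ * σ g = 1 := by rw [← map_mul, inv_mul_cancel, map_one]
    have hig : σ g * σ g⁻¹ = 1 := by rw [← map_mul, mul_inv_cancel, map_one]
    have hcan : ∀ y z : Module.End (ZMod q) M,
        σ g * y * σ g⁻¹ * (σ g * z * σ g⁻¹) = σ g * (y * z) * σ g⁻¹ := fun y z => by
      simp only [mul_assoc]
      rw [← mul_assoc (σ g⁻¹) (σ g), hgi, one_mul]
    refine ⟨hkg g e he.1, by rw [hcan, he.2.1], fun h => he.2.2.1 ?_, fun f hf hff => ?_⟩
    · have h1 := congrArg (fun y => σ g⁻¹ * y * σ g) h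
      simpa [mul_assoc, hgi, ← mul_assoc (σ g⁻¹) (σ g)] using h1
    · set f' := σ g⁻¹ * f * σ g with hf'
      have hf'k : f' ∈ k := by simpa [hf'] using hkg g⁻¹ f hf
      have hf'' : f = σ g * f' * σ g⁻¹ := by
        rw [hf']; simp only [mul_assoc, hig, mul_one]
        rw [← mul_assoc, hig, one_mul]
      have hf'i : f' * f' = f' := by
        rw [hf']; simp only [mul_assoc]
        rw [← mul_assoc (σ g) (σ g⁻¹), hig, one_mul, ← mul_assoc f, hff]
      rw [hf'', hcan]
      rcases he.2.2.2 f' hf'k hf'i with h | h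
      · left; rw [h]
      · right; rw [h, mul_zero, zero_mul]

end CfsgLib.PLocal.Gross
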