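import Cfsg.Agent.Lib.PLocal.Gross.Cosets
import Cfsg.Agent.Lib.PLocal.Gross.Splitting

/-!
In a solvable linear group in odd characteristic the involution of a quaternionic reflection of
order `2 ^ n` lies in a normal subgroup which is a `2`-group on every composition factor.
-/

set_option autoImplicit false
set_option linter.style.haveILetI false
set_option linter.unusedSectionVars false

namespace CfsgLib.PLocal.Gross

open Module Cfsg CfsgLib.Base
open scoped commutatorElement

universe v w

variable {q : ℕ} [Fact q.Prime]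

theorem primitive {M : Type*} [AddCommGroup M] [Module (ZMod q) M] [Finite M] [Nontrivial M]
    {G : Type*} [Group G] [Finite G] [Group.IsSolvable G] {σ : G →* Module.End (ZMod q) M} {u : G}
    {n : ℕ} {s : ZMod q} (H : PlaneTop σ u n s) (hq2 : q ≠ 2) (hinj : Function.Injective σ)
    (hirr : ∀ X : Submodule (ZMod q) M, (∀ g, ∀ v ∈ X, σ g v ∈ X) → X = ⊥ ∨ X = ⊤)
    (hdom : ∀ A : Subgroup G, A.Normal → (∀ a ∈ A, ∀ b ∈ A, a * b = b * a) →
      (Nat.card A).Coprime q →
        ∀ x ∈ Algebra.adjoin (ZMod q) (σ '' (A : Set G)), x ≠ 0 → Function.Injective x) :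
    u ^ 2 ^ (n - 1) ∈ pCore 2 G := by
  classical
  set t := u ^ 2 ^ (n - 1) with ht
  have hn2 := H.two_le
  haveI : Fact (Nat.Prime 2) := ⟨Nat.prime_two⟩
  have htt : t * t = 1 := by
    rw [ht, ← pow_add, ← two_mul, ← pow_succ', Nat.sub_add_cancel (by omega), H.pow_eq]
  by_cases hT : σ t = 1
  · rw [show t = 1 from hinj (hT.trans (map_one σ).symm)]
    exact one_mem _
  by_cases hC : ∃ c, σ t c = c ∧ c ≠ 0
  swap
  · -- the involution is `-1`
    push Not at hC
    have hneg : ∀ v, σ t v = -v := fun v => by
      obtain ⟨c, p, rfl, hc, hp⟩ := H.decompose hq2 v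
      rw [hC c hc, zero_add]
      exact hp
    have hcent : t ∈ Subgroup.center G := Subgroup.mem_center_iff.2 fun g => hinj (by
      rw [map_mul, map_mul]
      refine LinearMap.ext fun v => ?_
      rw [Module.End.mul_apply, Module.End.mul_apply, hneg, hneg, map_neg])
    haveI : (Subgroup.zpowers t).Normal := ⟨fun x hx g => by
      have hx' : x ∈ Subgroup.center G := (Subgroup.zpowers_le.2 hcent) hx
      rwa [Subgroup.mem_center_iff.1 hx' g, mul_inv_cancel_right]⟩
    refine le_pCore (N := Subgroup.zpowers t) ?_ (Subgroup.mem_zpowers t)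
    obtain ⟨j, -, hj⟩ := (Nat.dvd_prime_pow Nat.prime_two).1
      (orderOf_dvd_of_pow_eq_one (show t ^ 2 ^ 1 = 1 by rw [pow_one, pow_two, htt]))
    exact IsPGroup.of_card (n := j) (by rw [Nat.card_zpowers, hj])
  obtain ⟨c₀, hc₀, hc₀0⟩ := hC
  choose C hC hCself using fun r : Nat.Primes =>
    haveI := Fact.mk r.2; CfsgLib.KInf.exists_critical_core (r : ℕ) G
  haveI hCn : ∀ r, (C r).Normal := fun r => (hC r).normal
  haveI hZn : ∀ r, (C r ⊓ Subgroup.centralizer (C r : Set G)).Normal := fun r => inferInstance
  have hOq : pCore q G = ⊥ := pCore_eq_bot hinj hirr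
  have hC2 : ∀ r, ∀ a ∈ C r, ∀ b ∈ C r,
      ⁅a, b⁆ ∈ C r ⊓ Subgroup.centralizer (C r : Set G) := fun r a ha b hb =>
    (hC r).comm (Subgroup.commutator_mem_commutator ((hC r).le ha) hb)
  have hZdom : ∀ r : Nat.Primes, (r : ℕ) ≠ q → ∀ x ∈ Algebra.adjoin (ZMod q)
      (σ '' ((C r ⊓ Subgroup.centralizer (C r : Set G) : Subgroup G) : Set G)),
      x ≠ 0 → Function.Injective x := by
    intro r hrq
    haveI := Fact.mk r.2
    refine hdom (C r ⊓ Subgroup.centralizer (C r : Set G)) (hZn r) ?_ ?_
    · intro a ha b hb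
      exact Subgroup.mem_centralizer_iff.1 hb.2 a ha.1
    obtain ⟨k, hk⟩ := IsPGroup.iff_card.1
      ((isPGroup_pCore (r : ℕ) G).to_le (inf_le_left.trans (hC r).le) :
        IsPGroup (r : ℕ) ↥(C r ⊓ Subgroup.centralizer (C r : Set G)))
    rw [hk]
    exact ((Nat.coprime_primes r.2 Fact.out).2 hrq).pow_left k
  have huZ : ∀ r : Nat.Primes, ∀ z ∈ C r ⊓ Subgroup.centralizer (C r : Set G),
      u * z * u⁻¹ = z := by
    intro r z hz
    by_cases hrq : (r : ℕ) = q
    · have h1 := (hC r).le hz.1
      rw [hrq, hOq, Subgroup.mem_bot] at h1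
      rw [h1, mul_one, mul_inv_cancel]
    · exact commute_field H hq2 hinj hc₀ hc₀0 (C r ⊓ Subgroup.centralizer (C r : Set G))
        (fun a ha b hb => Subgroup.mem_centralizer_iff.1 hb.2 a ha.1) (hZdom r hrq) z hz
  have hu2 : ∀ r : Nat.Primes, ∀ x ∈ C r, ⁅u ^ 2, x⁆ ∈ Subgroup.centralizer (C r : Set G) := by
    intro r x hx
    haveI := Fact.mk r.2
    by_cases hrq : (r : ℕ) = q
    · have h1 := (hC r).le hx
      rw [hrq, hOq, Subgroup.mem_bot] at h1
      rw [h1, commutatorElement_one_right]
      exact one_mem _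
    · exact sq_fixes_cosets H hq2 hinj hT hrq (C r) ((isPGroup_pCore (r : ℕ) G).to_le (hC r).le)
        (fun a ha => ((hC r).exp a ha).2) (hC2 r) (hZdom r hrq) (huZ r) x hx
  -- the subgroup acting trivially modulo the centres
  let K : Nat.Primes → Subgroup G := fun r =>
    { carrier := {g | (∀ z ∈ C r ⊓ Subgroup.centralizer (C r : Set G), g * z * g⁻¹ = z) ∧
        ∀ x ∈ C r, ⁅g, x⁆ ∈ Subgroup.centralizer (C r : Set G)}
      one_mem' := ⟨fun z _ => by group, fun x _ => by
        rw [commutatorElement_one_left]; exact one_mem _⟩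
      mul_mem' := fun {g h} hg hh => ⟨fun z hz => by
          rw [show g * h * z * (g * h)⁻¹ = g * (h * z * h⁻¹) * g⁻¹ by group, hh.1 z hz, hg.1 z hz],
        fun x hx => by
          rw [commutatorElement_mul_left_eq_conj_mul]
          exact mul_mem ((inferInstance :
            (Subgroup.centralizer (C r : Set G)).Normal).conj_mem _ (hh.2 x hx) g) (hg.2 x hx)⟩
      inv_mem' := fun {g} hg => ⟨fun z hz => by
          conv_lhs => rw [← hg.1 z hz]
          group,
        fun x hx => by
          have h1 := (inferInstance : (Subgroup.centralizer (C r : Set G)).Normal).conj_mem _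
            (inv_mem (hg.2 x hx)) g⁻¹
          convert h1 using 1
          simp only [commutatorElement_def]; group⟩ }
  have hKn : ∀ r, (K r).Normal := fun r => ⟨fun g hg h => ⟨fun z hz => by
      have h1 := hg.1 _ ((hZn r).conj_mem z hz h⁻¹)
      calc h * g * h⁻¹ * z * (h * g * h⁻¹)⁻¹ = h * (g * (h⁻¹ * z * h⁻¹⁻¹) * g⁻¹) * h⁻¹ := by group
        _ = h * (h⁻¹ * z * h⁻¹⁻¹) * h⁻¹ := by rw [h1]
        _ = z := by group,
    fun x hx => by
      have h1 := (inferInstance : (Subgroup.centralizer (C r : Set G)).Normal).conj_mem _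
        (hg.2 _ ((hCn r).conj_mem x hx h⁻¹)) h
      convert h1 using 1
      simp only [commutatorElement_def]; group⟩⟩
  let L : Subgroup G := ⨅ r : Nat.Primes, K r ⊓
    (if (r : ℕ) = 2 then ⊤ else Subgroup.centralizer (pCore (r : ℕ) G : Set G))
  haveI hLn : L.Normal := Subgroup.normal_iInf_normal fun r => by
    haveI := hKn r
    split_ifs <;> infer_instance
  have hLmem : ∀ g, g ∈ L ↔ ∀ r : Nat.Primes, g ∈ K r ∧
      ((r : ℕ) ≠ 2 → g ∈ Subgroup.centralizer (pCore (r : ℕ) G : Set G)) := fun g => by
    simp only [L, Subgroup.mem_iInf, Subgroup.mem_inf]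
    refine forall_congr' fun r => and_congr_right fun _ => ?_
    split_ifs with h <;> simp [h]
  have htK : ∀ r, t ∈ K r := fun r => by
    have h1 : u ∈ ({ carrier := {g | ∀ z ∈ C r ⊓ Subgroup.centralizer (C r : Set G),
        g * z * g⁻¹ = z}
                     one_mem' := fun z _ => by group
                     mul_mem' := fun {g h} hg hh z hz => by
                      rw [show g * h * z * (g * h)⁻¹ = g * (h * z * h⁻¹) * g⁻¹ by group,
                        hh z hz, hg z hz] } : Submonoid G) := huZ r
    have h2 : u ^ 2 ∈ K r := ⟨(pow_mem h1 2 :), hu2 r⟩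
    rw [ht, H.even_half, pow_mul]
    exact pow_mem h2 _
  have htL : t ∈ L := by
    rw [hLmem]
    refine fun r => ⟨htK r, fun hr2 => ?_⟩
    haveI := Fact.mk r.2
    have hord : orderOf t ∣ 2 := orderOf_dvd_of_pow_eq_one (by rw [pow_two, htt])
    refine (hC r).faithful t (Subgroup.mem_centralizer_iff.2 fun x hx => ?_)
      (((Nat.coprime_primes Nat.prime_two r.2).2 (Ne.symm hr2)).coprime_dvd_left hord)
    set z := t * x * t⁻¹ * x⁻¹ with hz
    have hzZ : z ∈ C r ⊓ Subgroup.centralizer (C r : Set G) := by
      refine Subgroup.mem_inf.2 ⟨mul_mem ((hCn r).conj_mem x hx t) (inv_mem hx), ?_⟩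
      have := (htK r).2 x hx
      rwa [commutatorElement_def] at this
    have hx1 : t * x * t⁻¹ = z * x := by rw [hz, inv_mul_cancel_right]
    have hz2 : z ^ 2 = 1 := by
      have h1 : t * (z * x) * t⁻¹ = (t * z * t⁻¹) * (t * x * t⁻¹) := by group
      rw [(htK r).1 z hzZ, hx1] at h1
      have h2 : t * (z * x) * t⁻¹ = x := by
        rw [← hx1]
        calc t * (t * x * t⁻¹) * t⁻¹ = (t * t) * x * (t * t)⁻¹ := by group
          _ = x := by rw [htt]; group
      rw [h2, ← mul_assoc, ← pow_two, eq_comm, mul_eq_right] at h1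
      exact h1
    have hz1 : z = 1 := by
      obtain ⟨j, hj⟩ := (isPGroup_pCore (r : ℕ) G) ⟨z, (hC r).le hzZ.1⟩
      exact orderOf_eq_one_iff.1 (Nat.eq_one_of_dvd_coprimes
        (((Nat.coprime_primes Nat.prime_two r.2).2 (Ne.symm hr2)).pow_right j)
        (orderOf_dvd_of_pow_eq_one hz2)
        (orderOf_dvd_of_pow_eq_one (congrArg Subtype.val hj)))
    rw [hz1, one_mul] at hx1
    conv_lhs => rw [← hx1]
    group
  -- odd elements of `L` are central in it
  have hodd : ∀ y ∈ L, Odd (orderOf y) → ∀ h ∈ L, h * y = y * h := by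
    intro y hy hyo h hh
    have hyc : ∀ r : Nat.Primes, y ∈ Subgroup.centralizer (pCore (r : ℕ) G : Set G) := by
      intro r
      haveI := Fact.mk r.2
      by_cases hr2 : (r : ℕ) = 2
      swap
      · exact ((hLmem y).1 hy r).2 hr2
      have hcop : (orderOf y).Coprime (r : ℕ) := by
        rw [hr2]; exact hyo.coprime_two_right
      refine (hC r).faithful y (Subgroup.mem_centralizer_iff.2 fun x hx => ?_) hcop
      have hyK := ((hLmem y).1 hy r).1
      set z := y * x * y⁻¹ * x⁻¹ with hz
      have hzZ : z ∈ C r ⊓ Subgroup.centralizer (C r : Set G) := by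
        refine Subgroup.mem_inf.2 ⟨mul_mem ((hCn r).conj_mem x hx y) (inv_mem hx), ?_⟩
        have := hyK.2 x hx
        rwa [commutatorElement_def] at this
      have hx1 : y * x * y⁻¹ = z * x := by rw [hz, inv_mul_cancel_right]
      have hiter : ∀ k : ℕ, y ^ k * x * (y ^ k)⁻¹ = z ^ k * x := by
        intro k
        induction k with
        | zero => simp
        | succ k ih =>
          have hfix := hyK.1 _ (pow_mem hzZ k)
          calc y ^ (k + 1) * x * (y ^ (k + 1))⁻¹ = y * (y ^ k * x * (y ^ k)⁻¹) * y⁻¹ := by group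
            _ = (y * z ^ k * y⁻¹) * (y * x * y⁻¹) := by rw [ih]; group
            _ = z ^ (k + 1) * x := by rw [hfix, hx1, ← mul_assoc, ← pow_succ]
      have h1 := hiter (orderOf y)
      rw [pow_orderOf_eq_one, one_mul, inv_one, mul_one, right_eq_mul] at h1
      obtain ⟨j, hj⟩ := (isPGroup_pCore (r : ℕ) G) ⟨z, (hC r).le hzZ.1⟩
      have hz1 : z = 1 := orderOf_eq_one_iff.1 (Nat.eq_one_of_dvd_coprimes
        (hcop.pow_right j) (orderOf_dvd_of_pow_eq_one h1)
        (orderOf_dvd_of_pow_eq_one (congrArg Subtype.val hj)))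
      rw [hz1, one_mul] at hx1
      conv_lhs => rw [← hx1]
      group
    have hyF : y ∈ fittingSubgroup G := centralizer_fittingSubgroup_le (by
      rw [Subgroup.mem_centralizer_iff]
      have hle : fittingSubgroup G ≤ Subgroup.centralizer {y} := by
        rw [fittingSubgroup_eq_iSup_pCore, iSup_le_iff]
        intro r x hx
        rw [Subgroup.mem_centralizer_singleton_iff]
        exact (Subgroup.mem_centralizer_iff.1 (hyc r) x hx)
      intro x hx
      exact Subgroup.mem_centralizer_singleton_iff.1 (hle hx))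
    refine commute_of_fitting hyF fun r hr hdvd w hw => ?_
    have hr2 : r ≠ 2 := fun h2 => by
      subst h2
      exact (Nat.not_even_iff_odd.2 hyo) (even_iff_two_dvd.2 hdvd)
    exact (Subgroup.mem_centralizer_iff.1 (((hLmem h).1 hh ⟨r, Fact.out⟩).2 hr2) w hw).symm
  -- `L` is nilpotent
  have hLnil : Group.IsNilpotent L := by
    have hp : IsPGroup 2 (L ⧸ Subgroup.center L) := by
      intro x
      obtain ⟨x, rfl⟩ := QuotientGroup.mk_surjective x
      obtain ⟨k, m, hm, hxm⟩ :=
        Nat.exists_eq_two_pow_mul_odd (orderOf_pos (x : G)).ne'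
      refine ⟨k, ?_⟩
      rw [← QuotientGroup.mk_pow, QuotientGroup.eq_one_iff, Subgroup.mem_center_iff]
      intro h
      refine Subtype.ext ?_
      refine hodd _ (x ^ 2 ^ k).2 ?_ h h.2
      rw [Subgroup.coe_pow, orderOf_pow_of_dvd (by positivity) (hxm ▸ dvd_mul_right _ m), hxm,
        Nat.mul_div_cancel_left _ (by positivity)]
      exact hm
    haveI := hp.isNilpotent
    exact isNilpotent_of_ker_le_center (QuotientGroup.mk' (Subgroup.center L))
      (QuotientGroup.ker_mk' _).le
  exact mem_pCore_of_mem_fitting (k := 1) (le_fittingSubgroup hLnil htL)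
    (by rw [pow_one, pow_two, htt])

theorem irreducible_faithful {M : Type w} [AddCommGroup M] [Module (ZMod q) M] [Finite M]
    {G : Type v} [Group G] [Finite G] [Group.IsSolvable G] {σ : G →* Module.End (ZMod q) M} {u : G}
    {n : ℕ} {s : ZMod q} (H : PlaneTop σ u n s) (hq2 : q ≠ 2) (hinj : Function.Injective σ)
    (hirr : ∀ X : Submodule (ZMod q) M, (∀ g, ∀ v ∈ X, σ g v ∈ X) → X = ⊥ ∨ X = ⊤) :
    u ^ 2 ^ (n - 1) ∈ pCore 2 G := by
  induction hN : Nat.card M using Nat.strong_induction_on generalizing M G n s with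
  | _ N ih =>
  classical
  subst hN
  set t := u ^ 2 ^ (n - 1) with ht
  have hn2 := H.two_le
  haveI : Fact (Nat.Prime 2) := ⟨Nat.prime_two⟩
  by_cases hT : σ t = 1
  · rw [show t = 1 from hinj (hT.trans (map_one σ).symm)]
    exact one_mem _
  haveI : Nontrivial M := by
    by_contra h
    rw [not_nontrivial_iff_subsingleton] at h
    exact hT (LinearMap.ext fun v => Subsingleton.elim _ _)
  by_cases hprim : ∀ A : Subgroup G, A.Normal → (∀ a ∈ A, ∀ b ∈ A, a * b = b * a) →
      (Nat.card A).Coprime q →
        ∀ x ∈ Algebra.adjoin (ZMod q) (σ '' (A : Set G)), x ≠ 0 → Function.Injective x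
  · exact primitive H hq2 hinj hirr hprim
  push Not at hprim
  obtain ⟨A, hAn, hAc, hAq, x, hx, hx0, hxi⟩ := hprim
  haveI := hAn
  obtain ⟨S, hS2, hSsum, hSe, hSo, hSc⟩ :=
    (exists_splitting σ A hAc hAq).resolve_left fun h => hxi (h x hx hx0)
  -- the action on the pieces
  have hgi : ∀ g : G, σ g⁻¹ * σ g = 1 := fun g => by rw [← map_mul, inv_mul_cancel, map_one]
  letI act : MulAction G S :=
    { smul := fun g e => ⟨σ g * e.1 * σ g⁻¹, hSc g e.1 e.2⟩
      one_smul := fun e => Subtype.ext (by
        show σ 1 * e.1 * σ (1 : G)⁻¹ = e.1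
        rw [inv_one, map_one, one_mul, mul_one])
      mul_smul := fun g h e => Subtype.ext (by
        show σ (g * h) * e.1 * σ (g * h)⁻¹ = σ g * (σ h * e.1 * σ h⁻¹) * σ g⁻¹
        rw [mul_inv_rev, map_mul, map_mul]
        simp only [mul_assoc]) }
  have hsmul : ∀ (g : G) (e : S), ((g • e : S) : Module.End (ZMod q) M) = σ g * e.1 * σ g⁻¹ :=
    fun g e => rfl
  have hmove : ∀ (g : G) (e : S) (v : M), e.1 v = v → (g • e).1 (σ g v) = σ g v := fun g e v hv => by
    rw [hsmul, mul_assoc, Module.End.mul_apply, Module.End.mul_apply, ← Module.End.mul_apply (σ g⁻¹),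
      hgi, Module.End.one_apply, hv]
  have hproj : ∀ (e f : S), e ≠ f → ∀ v, f.1 v = v → e.1 v = 0 := fun e f hef v hv => by
    rw [← hv, ← Module.End.mul_apply, hSo e.1 e.2 f.1 f.2 (fun h => hef (Subtype.ext h))]
    rfl
  have hnz : ∀ e : S, ∃ v, e.1 v = v ∧ v ≠ 0 := fun e => by
    by_contra hall
    push Not at hall
    refine (hSe e.1 e.2).2 (LinearMap.ext fun v => ?_)
    exact hall (e.1 v) (LinearMap.congr_fun (hSe e.1 e.2).1 v)
  -- `u ^ 2` fixes every piece
  have hu2 : ∀ e : S, u ^ 2 • e = e := by
    intro e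
    by_contra hne
    have hN : u ^ 2 ^ n • e = e := by rw [H.pow_eq, one_smul]
    have hd : ∀ d, 1 ≤ d → d ≤ 3 → u ^ d • e ≠ e := by
      intro d hd1 hd3 hde
      interval_cases d
      · rw [pow_one] at hde
        exact hne (by rw [pow_two, mul_smul, hde, hde])
      · exact hne hde
      · have hk : ∀ k, u ^ (3 * k) • e = e := by
          intro k
          induction k with
          | zero => simp
          | succ k ih => rw [mul_add, mul_one, pow_add, mul_smul, hde, ih]
        have h1 : u ^ (2 ^ n % 3) • e = e := by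
          have h2 := hN
          rw [← Nat.mod_add_div (2 ^ n) 3, pow_add, mul_smul, hk] at h2
          exact h2
        have h3 : ¬ 3 ∣ 2 ^ n := fun h =>
          absurd (Nat.prime_three.dvd_of_dvd_pow h) (by decide)
        rcases (show 2 ^ n % 3 = 1 ∨ 2 ^ n % 3 = 2 by omega) with h | h <;> rw [h] at h1
        · rw [pow_one] at h1; exact hne (by rw [pow_two, mul_smul, h1, h1])
        · exact hne h1
    obtain ⟨v, hv, hv0⟩ := hnz e
    have hcub := congrArg (u ^ 3 • e).1 (H.cubic hq2 v)
    have m1 := hmove u e v hv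
    have m2 := hmove (u ^ 2) e v hv
    have m3 := hmove (u ^ 3) e v hv
    have e2 : σ u (σ u v) = σ (u ^ 2) v := by rw [pow_two, map_mul, Module.End.mul_apply]
    have e3 : σ u (σ u (σ u v)) = σ (u ^ 3) v := by
      rw [e2, pow_succ' u 2, map_mul σ u (u ^ 2), Module.End.mul_apply]
    have d31 : u ^ 3 • e ≠ u • e := fun h => by
      rw [pow_succ', mul_smul, smul_left_cancel_iff] at h
      exact hne h
    have d32 : u ^ 3 • e ≠ u ^ 2 • e := fun h => by
      rw [pow_succ, mul_smul, smul_left_cancel_iff] at h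
      exact hd 1 le_rfl (by omega) (by rw [pow_one]; exact h)
    rw [e3, e2] at hcub
    simp only [map_add, map_sub, map_smul, m3, hproj _ _ d31 _ m1, hproj _ _ d32 _ m2,
      hproj _ _ (hd 3 (by omega) le_rfl) _ hv, smul_zero, sub_zero, add_zero] at hcub
    apply hv0
    have h1 := congrArg (σ (u ^ 3)⁻¹) hcub
    rwa [← Module.End.mul_apply, hgi, Module.End.one_apply, map_zero] at h1
  have hswap : ∀ e : S, u • e ≠ e → ∃ c : ZMod q, ∀ v, e.1 v = v → σ (u ^ 2) v = c • v := by
    intro e hne
    refine ⟨-(s + 1)⁻¹, fun v hv => ?_⟩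
    have e2 : σ u (σ u v) = σ (u ^ 2) v := by rw [pow_two, map_mul, Module.End.mul_apply]
    have e3 : σ u (σ u (σ u v)) = σ (u ^ 3) v := by
      rw [e2, pow_succ' u 2, map_mul σ u (u ^ 2), Module.End.mul_apply]
    have m1 := hmove u e v hv
    have m2 := hmove (u ^ 2) e v hv
    rw [hu2] at m2
    have m3 := hmove (u ^ 3) e v hv
    rw [pow_succ' u 2, mul_smul, hu2, ← pow_succ' u 2] at m3
    have hcub := congrArg e.1 (H.cubic hq2 v)
    rw [e3, e2] at hcub
    simp only [map_add, map_sub, map_smul, m2, hv, hproj _ _ (Ne.symm hne) _ m3,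
      hproj _ _ (Ne.symm hne) _ m1, smul_zero, sub_zero] at hcub
    by_cases hs : s + 1 = 0
    · rw [hs, zero_smul, zero_add] at hcub
      rw [← hcub]; simp
    · have h1 : (s + 1) • σ (u ^ 2) v = -v := by
        rw [← sub_eq_zero, sub_neg_eq_add]; exact hcub.symm
      rw [neg_smul, ← smul_neg, ← h1, smul_smul, inv_mul_cancel₀ hs, one_smul]
  -- restriction to a piece
  have hfixU : ∀ (e : S), ∀ g ∈ MulAction.stabilizer G e,
      ∀ v ∈ LinearMap.range e.1, σ g v ∈ LinearMap.range e.1 := by
    rintro e g hg _ ⟨v, rfl⟩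
    refine ⟨σ g (e.1 v), ?_⟩
    conv_lhs => arg 1; rw [show e.1 = (g • e).1 by rw [MulAction.mem_stabilizer_iff.1 hg]]
    exact hmove g e _ (LinearMap.congr_fun (hSe e.1 e.2).1 v)
  let σe : ∀ e : S, MulAction.stabilizer G e →* Module.End (ZMod q) (LinearMap.range e.1) := fun e =>
    { toFun := fun g => (σ (g : G)).restrict (hfixU e g g.2)
      map_one' := LinearMap.ext fun v => Subtype.ext (by
        show σ (1 : G) (v : M) = v
        rw [map_one, Module.End.one_apply])
      map_mul' := fun g h => LinearMap.ext fun v => Subtype.ext (by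
        show σ ((g : G) * h) (v : M) = σ (g : G) (σ (h : G) (v : M))
        rw [map_mul, Module.End.mul_apply]) }
  have hσe : ∀ (e : S) (g : MulAction.stabilizer G e) (v : LinearMap.range e.1),
      ((σe e g v : LinearMap.range e.1) : M) = σ (g : G) v := fun _ _ _ => rfl
  have hid : ∀ (e : S) (v : M), v ∈ LinearMap.range e.1 → e.1 v = v := by
    rintro e _ ⟨v, rfl⟩
    exact LinearMap.congr_fun (hSe e.1 e.2).1 v
  have htfix : ∀ e : S, t ∈ MulAction.stabilizer G e := fun e => by
    rw [ht, H.even_half, pow_mul]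
    exact pow_mem (MulAction.mem_stabilizer_iff.2 (hu2 e)) _
  have key : ∀ e : S, ∃ K : Subgroup (MulAction.stabilizer G e), K.Normal ∧
      (⟨t, htfix e⟩ : MulAction.stabilizer G e) ∈ K ∧ ∀ g ∈ K, ∃ k, σe e (g ^ 2 ^ k) = 1 := by
    intro e
    by_cases hue : u • e = e
    swap
    · -- scalars
      obtain ⟨c, hc⟩ := hswap e hue
      set te : MulAction.stabilizer G e := ⟨t, htfix e⟩
      have hte : ∀ v, σe e te v = c ^ 2 ^ (n - 2) • v := fun v => Subtype.ext (by
        rw [hσe, Submodule.coe_smul]
        show σ t (v : M) = _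
        rw [ht, H.even_half, pow_mul, map_pow]
        generalize 2 ^ (n - 2) = k
        induction k with
        | zero => simp
        | succ k ihk =>
          rw [pow_succ', Module.End.mul_apply, ihk, map_smul, hc _ (hid e v v.2), smul_smul,
            pow_succ])
      have hcomm : ∀ g, σe e g * σe e te = σe e te * σe e g := fun g => LinearMap.ext fun v => by
        rw [Module.End.mul_apply, Module.End.mul_apply, hte, hte, map_smul]
      have htt : te * te = 1 := Subtype.ext (by
        show t * t = 1
        rw [ht, ← pow_add, ← two_mul, ← pow_succ', Nat.sub_add_cancel (by omega), H.pow_eq])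
      refine ⟨{ carrier := {g | σe e g = 1 ∨ σe e g = σe e te}
                one_mem' := Or.inl (map_one _)
                mul_mem' := ?_
                inv_mem' := ?_ }, ?_, Or.inr rfl, fun g hg => ⟨1, ?_⟩⟩
      · rintro g h (hg | hg) (hh | hh)
        · left; rw [map_mul, hg, hh, one_mul]
        · right; rw [map_mul, hg, hh, one_mul]
        · right; rw [map_mul, hg, hh, mul_one]
        · left; rw [map_mul, hg, hh, ← map_mul, htt, map_one]
      · rintro g (hg | hg)
        · left
          have := congrArg (σe e g⁻¹ * ·) hg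
          simpa [← map_mul] using this.symm
        · right
          have h1 := congrArg (fun y => σe e g⁻¹ * y * σe e te) hg
          simpa [mul_assoc, ← map_mul, htt] using h1.symm
      · refine ⟨?_⟩
        rintro g (hg | hg) h
        · left; rw [map_mul, map_mul, hg, mul_one, ← map_mul, mul_inv_cancel, map_one]
        · right; rw [map_mul, map_mul, hg, hcomm, mul_assoc, ← map_mul, mul_inv_cancel, map_one,
            mul_one]
      · rw [pow_one, pow_two, map_mul]
        rcases hg with hg | hg
        · rw [hg, one_mul]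
        · rw [hg, ← map_mul, htt, map_one]
    · -- induction
      set ue : MulAction.stabilizer G e := ⟨u, MulAction.mem_stabilizer_iff.2 hue⟩ with hued
      have hue2 : ∀ k, ((ue ^ k : MulAction.stabilizer G e) : G) = u ^ k := fun k => rfl
      have He : PlaneTop (σe e) ue n s :=
        { two_le := H.two_le
          pow_eq := Subtype.ext (by rw [hue2, H.pow_eq]; rfl)
          three := H.three
          fix := fun v hv => Subtype.ext (H.fix v (congrArg Subtype.val hv))
          quad := fun v hv => Subtype.ext (H.quad v (congrArg Subtype.val hv))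
          dim := by
            refine le_trans (LinearMap.finrank_le_finrank_of_injective
              (f := ((LinearMap.range e.1).subtype.comp
                (LinearMap.ker (σe e (ue ^ 2 ^ (n - 1)) + 1)).subtype).codRestrict
                (LinearMap.ker (σ (u ^ 2 ^ (n - 1)) + 1)) fun v => ?_) ?_) H.dim
            · have h1 := congrArg Subtype.val (LinearMap.mem_ker.1 v.2)
              exact h1
            · intro a b hab
              exact Subtype.ext (Subtype.ext
                (congrArg (fun z : LinearMap.ker (σ (u ^ 2 ^ (n - 1)) + 1) => (z : M)) hab)) }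
      have hirre : ∀ Y : Submodule (ZMod q) (LinearMap.range e.1),
          (∀ g, ∀ v ∈ Y, σe e g v ∈ Y) → Y = ⊥ ∨ Y = ⊤ := by
        intro Y hY
        let X : Submodule (ZMod q) M :=
          { carrier := {v | ∀ g, (⟨e.1 (σ g v), LinearMap.mem_range_self _ _⟩ :
              LinearMap.range e.1) ∈ Y}
            add_mem' := fun {a b} ha hb g => by
              have := Y.add_mem (ha g) (hb g)
              convert this using 1
              exact Subtype.ext (by simp [map_add])
            zero_mem' := fun g => by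
              convert Y.zero_mem using 1
              exact Subtype.ext (by simp)
            smul_mem' := fun a v hv g => by
              have := Y.smul_mem a (hv g)
              convert this using 1
              exact Subtype.ext (by simp [map_smul]) }
        have hXinv : ∀ g, ∀ v ∈ X, σ g v ∈ X := fun g v hv h => by
          have := hv (h * g)
          convert this using 1
          exact Subtype.ext (by rw [map_mul, Module.End.mul_apply])
        have hYX : ∀ y ∈ Y, (y : M) ∈ X := by
          intro y hy g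
          by_cases hge : g • e = e
          · have := hY ⟨g, MulAction.mem_stabilizer_iff.2 hge⟩ y hy
            convert this using 1
            refine Subtype.ext ?_
            show e.1 (σ g (y : M)) = σ g y
            have h1 := hmove g e y (hid e y y.2)
            rwa [hge] at h1
          · convert Y.zero_mem using 1
            exact Subtype.ext (hproj e (g • e) (Ne.symm hge) _ (hmove g e y (hid e y y.2)))
        rcases hirr X hXinv with h | h
        · refine Or.inl ((Submodule.eq_bot_iff Y).2 fun y hy => Subtype.ext ?_)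
          have := hYX y hy
          rwa [h, Submodule.mem_bot] at this
        · refine Or.inr (eq_top_iff.2 fun y _ => ?_)
          have h1 : (y : M) ∈ X := h ▸ Submodule.mem_top
          have := h1 1
          convert this using 1
          refine Subtype.ext ?_
          show (y : M) = e.1 (σ 1 (y : M))
          rw [map_one, Module.End.one_apply, hid e y y.2]
      have hlt : Nat.card (LinearMap.range e.1) < Nat.card M := by
        refine lt_of_le_of_ne (Nat.card_le_card_of_injective _ Subtype.val_injective) fun heq => ?_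
        obtain ⟨f, hf⟩ : ∃ f : S, f ≠ e := by
          haveI : Nontrivial S := Fintype.one_lt_card_iff_nontrivial.1 (by
            rw [Fintype.card_coe]; omega)
          exact exists_ne e
        obtain ⟨v, hv, hv0⟩ := hnz f
        obtain ⟨w, hw⟩ := ((Nat.bijective_iff_injective_and_card _).2
          ⟨Subtype.val_injective (p := fun x => x ∈ LinearMap.range e.1), heq⟩).2 v
        have := hproj e f (Ne.symm hf) v hv
        rw [← hw, hid e w w.2, hw] at this
        exact hv0 this
      -- make the representation faithful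
      set K := (σe e).toHomUnits.ker
      haveI : Group.IsSolvable (MulAction.stabilizer G e ⧸ K) := inferInstance
      let σq : (MulAction.stabilizer G e ⧸ K) →* Module.End (ZMod q) (LinearMap.range e.1) :=
        (Units.coeHom _).comp (QuotientGroup.kerLift (σe e).toHomUnits)
      have hσq : ∀ g, σq (QuotientGroup.mk' K g) = σe e g := fun g => rfl
      have hq : PlaneTop σq (QuotientGroup.mk' K ue) n s :=
        { two_le := He.two_le
          pow_eq := by rw [← map_pow, He.pow_eq, map_one]
          three := He.three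
          fix := fun v hv => He.fix v (by rw [← map_pow, hσq] at hv; exact hv)
          quad := fun v hv => He.quad v (by rw [← map_pow, hσq] at hv; exact hv)
          dim := by rw [← map_pow, hσq]; exact He.dim }
      have := ih _ hlt hq (Units.val_injective.comp (QuotientGroup.kerLift_injective _))
        (fun Y hY => hirre Y fun g v hv => hY (QuotientGroup.mk' K g) v hv) rfl
      refine ⟨(pCore 2 (MulAction.stabilizer G e ⧸ K)).comap (QuotientGroup.mk' K),
        inferInstance, ?_, fun g hg => ?_⟩
      · rw [Subgroup.mem_comap]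
        rwa [← map_pow] at this
      · obtain ⟨k, hk⟩ := isPGroup_pCore 2 _ ⟨_, hg⟩
        refine ⟨k, ?_⟩
        rw [← hσq, map_pow]
        have h1 : (QuotientGroup.mk' K g) ^ 2 ^ k = 1 := congrArg Subtype.val hk
        rw [h1, map_one]
  choose K hKn htK hK using key
  let L : Subgroup G := ⨅ e : S, MulAction.stabilizer G e
  have hLle : ∀ e, L ≤ MulAction.stabilizer G e := fun e => iInf_le _ e
  haveI hLn : L.Normal := ⟨fun g hg h => by
    rw [Subgroup.mem_iInf] at hg ⊢
    intro e
    rw [MulAction.mem_stabilizer_iff, mul_smul, mul_smul,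
      MulAction.mem_stabilizer_iff.1 (hg (h⁻¹ • e)), smul_inv_smul]⟩
  let P : Subgroup L := ⨅ e : S, (K e).comap (Subgroup.inclusion (hLle e))
  haveI : P.Normal := Subgroup.normal_iInf_normal fun e => Subgroup.Normal.comap (hKn e) _
  have htL : t ∈ L := Subgroup.mem_iInf.2 htfix
  have hP : IsPGroup 2 P := by
    intro g
    have hgm : ∀ e, Subgroup.inclusion (hLle e) (g : L) ∈ K e := fun e =>
      Subgroup.mem_comap.1 (Subgroup.mem_iInf.1 g.2 e)
    choose k hk using fun e => hK e _ (hgm e)
    refine ⟨∑ e, k e, Subtype.ext (Subtype.ext (hinj (LinearMap.ext fun v => ?_)))⟩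
    show σ (((g : L) : G) ^ 2 ^ ∑ e, k e) v = σ 1 v
    rw [map_one, Module.End.one_apply]
    conv_lhs => rw [← Module.End.one_apply (R := ZMod q) v, ← hSsum]
    conv_rhs => rw [← Module.End.one_apply (R := ZMod q) v, ← hSsum]
    simp only [LinearMap.sum_apply, map_sum]
    rw [← Finset.sum_coe_sort S, ← Finset.sum_coe_sort S]
    refine Finset.sum_congr rfl fun e _ => ?_
    obtain ⟨d, hd⟩ : ∃ d, ∑ e, k e = k e + d :=
      ⟨_, (Finset.add_sum_erase Finset.univ k (Finset.mem_univ e)).symm⟩
    rw [hd, pow_add, pow_mul, map_pow]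
    have h1 : σ (((g : L) : G) ^ 2 ^ k e) (e.1 v) = e.1 v :=
      congrArg Subtype.val (LinearMap.congr_fun (hk e) ⟨e.1 v, LinearMap.mem_range_self _ _⟩)
    generalize 2 ^ d = m
    induction m with
    | zero => simp
    | succ m ihm => rw [pow_succ, Module.End.mul_apply, h1, ihm]
  have htP : (⟨t, htL⟩ : L) ∈ P := Subgroup.mem_iInf.2 fun e => Subgroup.mem_comap.2 (htK e)
  have h1 : t ∈ (pCore 2 L).map L.subtype := ⟨⟨t, htL⟩, le_pCore hP htP, rfl⟩
  exact ((map_pCore_eq_inf L).le.trans inf_le_left) h1

/-- The involution lies in a normal subgroup that is a `2`-group on every composition factor. -/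
theorem factors {M : Type w} [AddCommGroup M] [Module (ZMod q) M] [Finite M]
    {G : Type v} [Group G] [Finite G] [Group.IsSolvable G] {σ : G →* Module.End (ZMod q) M} {u : G}
    {n : ℕ} {s : ZMod q} (H : PlaneTop σ u n s) (hq2 : q ≠ 2) :
    ∃ P K : Subgroup G, P.Normal ∧ K.Normal ∧ u ^ 2 ^ (n - 1) ∈ P ∧
      (∀ h ∈ P, ∃ k, h ^ 2 ^ k ∈ K) ∧ ∀ x ∈ K, ∀ j, x ^ 2 ^ j = 1 → σ x = 1 := by
  induction hN : Nat.card M using Nat.strong_induction_on generalizing M with
  | _ N ih =>
  classical
  subst hN
  haveI : Fact (Nat.Prime 2) := ⟨Nat.prime_two⟩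
  by_cases hirr : ∀ X : Submodule (ZMod q) M, (∀ g, ∀ v ∈ X, σ g v ∈ X) → X = ⊥ ∨ X = ⊤
  · set K := σ.toHomUnits.ker
    let σq : (G ⧸ K) →* Module.End (ZMod q) M :=
      (Units.coeHom _).comp (QuotientGroup.kerLift σ.toHomUnits)
    have hσq : ∀ g, σq (QuotientGroup.mk' K g) = σ g := fun g => rfl
    have hq : PlaneTop σq (QuotientGroup.mk' K u) n s :=
      { two_le := H.two_le
        pow_eq := by rw [← map_pow, H.pow_eq, map_one]
        three := H.three
        fix := fun v hv => H.fix v (by rw [← map_pow, hσq] at hv; exact hv)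
        quad := fun v hv => H.quad v (by rw [← map_pow, hσq] at hv; exact hv)
        dim := by rw [← map_pow, hσq]; exact H.dim }
    have h := irreducible_faithful hq hq2
      (Units.val_injective.comp (QuotientGroup.kerLift_injective _))
      (fun Y hY => hirr Y fun g v hv => hY (QuotientGroup.mk' K g) v hv)
    refine ⟨(pCore 2 (G ⧸ K)).comap (QuotientGroup.mk' K), K, inferInstance, inferInstance, ?_,
      fun g hg => ?_, fun x hx j _ => congrArg Units.val hx⟩
    · rw [Subgroup.mem_comap, map_pow]; exact h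
    · obtain ⟨k, hk⟩ := isPGroup_pCore 2 _ ⟨_, hg⟩
      refine ⟨k, (QuotientGroup.eq_one_iff _).1 ?_⟩
      rw [QuotientGroup.mk_pow]
      exact congrArg Subtype.val hk
  push Not at hirr
  obtain ⟨X, hX, hXb, hXt⟩ := hirr
  let σX : G →* Module.End (ZMod q) X :=
    { toFun := fun g => (σ g).restrict (hX g)
      map_one' := LinearMap.ext fun v => Subtype.ext (by
        show σ (1 : G) (v : M) = v
        rw [map_one, Module.End.one_apply])
      map_mul' := fun g h => LinearMap.ext fun v => Subtype.ext (by
        show σ (g * h) (v : M) = σ g (σ h (v : M))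
        rw [map_mul, Module.End.mul_apply]) }
  let σY : G →* Module.End (ZMod q) (M ⧸ X) :=
    { toFun := fun g => X.mapQ X (σ g) fun v hv => hX g v hv
      map_one' := Submodule.linearMap_qext _ (LinearMap.ext fun v => by
        show Submodule.Quotient.mk (σ (1 : G) v) = Submodule.Quotient.mk v
        rw [map_one, Module.End.one_apply])
      map_mul' := fun g h => Submodule.linearMap_qext _ (LinearMap.ext fun v => by
        show Submodule.Quotient.mk (σ (g * h) v) = Submodule.Quotient.mk (σ g (σ h v))
        rw [map_mul, Module.End.mul_apply]) }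
  have HX : PlaneTop σX u n s :=
    { two_le := H.two_le
      pow_eq := H.pow_eq
      three := H.three
      fix := fun v hv => Subtype.ext (H.fix v (congrArg Subtype.val hv))
      quad := fun v hv => Subtype.ext (H.quad v (congrArg Subtype.val hv))
      dim := by
        refine le_trans (LinearMap.finrank_le_finrank_of_injective
          (f := (X.subtype.comp (LinearMap.ker (σX (u ^ 2 ^ (n - 1)) + 1)).subtype).codRestrict
            (LinearMap.ker (σ (u ^ 2 ^ (n - 1)) + 1)) fun v => ?_) ?_) H.dim
        · exact congrArg Subtype.val (LinearMap.mem_ker.1 v.2)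
        · intro a b hab
          exact Subtype.ext (Subtype.ext
            (congrArg (fun z : LinearMap.ker (σ (u ^ 2 ^ (n - 1)) + 1) => (z : M)) hab)) }
  have hlift : ∀ w : M ⧸ X, ∃ c p : M, w = Submodule.Quotient.mk c + Submodule.Quotient.mk p ∧
      σ (u ^ 2 ^ (n - 1)) c = c ∧ σ (u ^ 2 ^ (n - 1)) p = -p := fun w => by
    obtain ⟨v, rfl⟩ := Submodule.Quotient.mk_surjective X w
    obtain ⟨c, p, rfl, hc, hp⟩ := H.decompose hq2 v
    exact ⟨c, p, rfl, hc, hp⟩
  have hσY : ∀ g v, σY g (Submodule.Quotient.mk v) = Submodule.Quotient.mk (σ g v) := fun g v => rfl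
  have h2 := PlaneTop.two_ne_zero' (q := q) hq2
  have hP : ∀ w, σY (u ^ 2 ^ (n - 1)) w = -w → ∃ p : M, σ (u ^ 2 ^ (n - 1)) p = -p ∧
      w = Submodule.Quotient.mk p := by
    intro w hw
    obtain ⟨c, p, rfl, hc, hp⟩ := hlift w
    refine ⟨p, hp, ?_⟩
    rw [map_add, hσY, hσY, hc, hp, Submodule.Quotient.mk_neg] at hw
    have h1 : (2 : ZMod q) • (Submodule.Quotient.mk c : M ⧸ X) = 0 := by
      linear_combination (norm := module) (1 : ℤ) • hw
    rw [(smul_eq_zero.1 h1).resolve_left h2, zero_add]
  have HY : PlaneTop σY u n s :=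
    { two_le := H.two_le
      pow_eq := H.pow_eq
      three := H.three
      fix := fun w hw => by
        obtain ⟨c, p, rfl, hc, hp⟩ := hlift w
        rw [map_add, hσY, hσY, hc, hp, Submodule.Quotient.mk_neg] at hw
        have h1 : (2 : ZMod q) • (Submodule.Quotient.mk p : M ⧸ X) = 0 := by
          linear_combination (norm := module) (-1 : ℤ) • hw
        rw [(smul_eq_zero.1 h1).resolve_left h2, add_zero, hσY, H.fix c hc]
      quad := fun w hw => by
        obtain ⟨p, hp, rfl⟩ := hP w hw
        rw [hσY, hσY, H.quad p hp, Submodule.Quotient.mk_sub, Submodule.Quotient.mk_smul]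
      dim := by
        haveI : Module.Finite (ZMod q) M := Module.Finite.of_finite
        refine le_trans (Submodule.finrank_mono (?_ : _ ≤
          (LinearMap.ker (σ (u ^ 2 ^ (n - 1)) + 1)).map X.mkQ)) ((Submodule.finrank_map_le _ _).trans
            H.dim)
        intro w hw
        rw [LinearMap.mem_ker, LinearMap.add_apply, Module.End.one_apply,
          add_eq_zero_iff_eq_neg] at hw
        obtain ⟨p, hp, rfl⟩ := hP w hw
        exact ⟨p, LinearMap.mem_ker.2 (by
          rw [LinearMap.add_apply, Module.End.one_apply, hp, neg_add_cancel]), rfl⟩ }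
  have hlX : Nat.card X < Nat.card M := by
    refine lt_of_le_of_ne (Nat.card_le_card_of_injective _ Subtype.val_injective) fun heq => hXt ?_
    refine eq_top_iff.2 fun v _ => ?_
    obtain ⟨w, hw⟩ := ((Nat.bijective_iff_injective_and_card _).2
      ⟨Subtype.val_injective (p := fun x => x ∈ X), heq⟩).2 v
    exact hw ▸ w.2
  have hlY : Nat.card (M ⧸ X) < Nat.card M := by
    refine lt_of_le_of_ne (Nat.card_le_card_of_surjective _ (Submodule.mkQ_surjective X))
      fun heq => hXb ?_
    have hinj := ((Nat.bijective_iff_surjective_and_card _).2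
      ⟨Submodule.mkQ_surjective X, heq.symm⟩).1
    rw [eq_bot_iff]
    intro v hv
    exact (Submodule.mem_bot _).2 (hinj (by rw [map_zero]; exact (Submodule.Quotient.mk_eq_zero X).2 hv))
  obtain ⟨P₁, K₁, hP₁, hK₁, ht₁, hp₁, hk₁⟩ := ih _ hlX HX rfl
  haveI : Finite (M ⧸ X) := Finite.of_surjective _ (Submodule.mkQ_surjective X)
  obtain ⟨P₂, K₂, hP₂, hK₂, ht₂, hp₂, hk₂⟩ := ih _ hlY HY rfl
  refine ⟨P₁ ⊓ P₂, K₁ ⊓ K₂, inferInstance, inferInstance, ⟨ht₁, ht₂⟩, fun h hh => ?_,
    fun x hx j hj => ?_⟩
  · obtain ⟨k₁, hh₁⟩ := hp₁ h hh.1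
    obtain ⟨k₂, hh₂⟩ := hp₂ h hh.2
    refine ⟨k₁ + k₂, ?_, ?_⟩
    · rw [pow_add, pow_mul]; exact pow_mem hh₁ _
    · rw [add_comm, pow_add, pow_mul]; exact pow_mem hh₂ _
  · have h1 := hk₁ x hx.1 j hj
    have h2' := hk₂ x hx.2 j hj
    refine LinearMap.ext fun v => ?_
    rw [Module.End.one_apply]
    set d := σ x v - v with hd
    have hdX : d ∈ X := by
      rw [← Submodule.Quotient.eq]
      exact LinearMap.congr_fun h2' (Submodule.Quotient.mk v)
    have hdfix : σ x d = d := congrArg Subtype.val (LinearMap.congr_fun h1 ⟨d, hdX⟩)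
    have hiter : ∀ k : ℕ, σ (x ^ k) v = v + (k : ZMod q) • d := by
      intro k
      induction k with
      | zero => simp
      | succ k ihk =>
        rw [pow_succ', map_mul, Module.End.mul_apply, ihk, map_add, map_smul, hdfix, Nat.cast_succ,
          hd]
        module
    have h3 := hiter (2 ^ j)
    rw [hj, map_one, Module.End.one_apply, left_eq_add, smul_eq_zero] at h3
    refine sub_eq_zero.1 (h3.resolve_left ?_)
    rw [Nat.cast_pow, Nat.cast_ofNat]
    exact pow_ne_zero _ h2

end CfsgLib.PLocal.Gross
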