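import Cfsg.Agent.Lib.PLocal.Gross.Plane
import Cfsg.Agent.Lib.PLocal.Gross.Irreducible
import Cfsg.Agent.Lib.GrossFpf.Layer

/-!
One central character of a normal `q`-subgroup of class two on which a `2`-element acts with
deficient degree: the involution lies in a normal subgroup that is a `2`-group modulo elements
centralising the section.
-/

set_option autoImplicit false
set_option linter.style.haveILetI false
set_option linter.unusedSectionVars false

namespace CfsgLib.PLocal.Gross

open Module CfsgLib.GrossFpf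
open scoped commutatorElement

/-- An elementary abelian group as a vector space. -/
@[reducible] def addModule {q : ℕ} {V : Type*} [CommGroup V] (hexp : ∀ v : V, v ^ q = 1) :
    Module (ZMod q) (Additive V) :=
  AddCommGroup.zmodModule (n := q) fun v => by
    apply Additive.toMul.injective
    rw [toMul_nsmul, toMul_zero]
    exact hexp v.toMul

/-- Automorphisms of an elementary abelian group as linear maps. -/
def endHom (q : ℕ) [Fact q.Prime] {V : Type*} [CommGroup V] [Module (ZMod q) (Additive V)] :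
    MulAut V →* Module.End (ZMod q) (Additive V) :=
  { toFun := fun g => (MonoidHom.toAdditive g.toMonoidHom).toZModLinearMap q
    map_one' := LinearMap.ext fun _ => rfl
    map_mul' := fun _ _ => LinearMap.ext fun _ => rfl }

theorem sum_range_mul_split {β : Type*} [AddCommMonoid β] (A B : ℕ) (f : ℕ → β) :
    ∑ i ∈ Finset.range (A * B), f i =
      ∑ r ∈ Finset.range A, ∑ j ∈ Finset.range B, f (r + A * j) := by
  induction B with
  | zero => simp
  | succ B ih =>
    rw [Nat.mul_succ, Finset.sum_range_add, ih, ← Finset.sum_add_distrib]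
    exact Finset.sum_congr rfl fun r _ => by rw [Finset.sum_range_succ, add_comm r (A * B)]

/-- An endomorphism of determinant one of a plane. -/
theorem exists_quadratic {q : ℕ} [Fact q.Prime] {P : Type*} [AddCommGroup P] [Module (ZMod q) P]
    [FiniteDimensional (ZMod q) P] (hP : finrank (ZMod q) P = 2) (g : Module.End (ZMod q) P)
    (hg : g ^ (q + 1) = 1) (hne : g * g ≠ 1) : ∃ s : ZMod q, g * g = s • g - 1 := by
  classical
  haveI : Nontrivial P := Module.nontrivial_of_finrank_pos (R := ZMod q) (by omega)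
  let φ := algEquivMatrix (Module.finBasisOfFinrankEq (ZMod q) P hP)
  set A := φ g with hA
  have hCH : A * A = A.trace • A - A.det • (1 : Matrix (Fin 2) (Fin 2) (ZMod q)) := by
    ext i j
    fin_cases i <;> fin_cases j <;>
      simp [Matrix.mul_apply, Fin.sum_univ_two, Matrix.trace, Matrix.det_fin_two] <;> ring
  have hquad : g * g = A.trace • g - A.det • (1 : Module.End (ZMod q) P) := φ.injective (by
    rw [map_mul, map_sub, map_smul, map_smul, map_one]
    exact hCH)
  refine ⟨A.trace, ?_⟩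
  suffices hd : A.det = 1 by rw [hquad, hd, one_smul]
  by_contra hd
  have hinv : g * g ^ q = 1 := by rw [← pow_succ', hg]
  have hinv' : g ^ q * g = 1 := by rw [← pow_succ, hg]
  have h1 : g + A.det • g ^ q = A.trace • (1 : Module.End (ZMod q) P) := by
    have h := congrArg (· * g ^ q) hquad
    simp only [mul_assoc, hinv, mul_one, sub_mul, smul_mul_assoc, one_mul] at h
    rw [← eq_sub_iff_add_eq]
    exact h
  haveI : CharP (Module.End (ZMod q) P) q :=
    charP_of_injective_algebraMap (algebraMap (ZMod q) (Module.End (ZMod q) P)).injective q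
  have h2 := congrArg (fun X : Module.End (ZMod q) P => X ^ q) h1
  rw [add_pow_char_of_commute q (((Commute.refl g).pow_right q).smul_right A.det), smul_pow,
    smul_pow, one_pow, ZMod.pow_card, ZMod.pow_card, ← h1] at h2
  have hqq : (g ^ q) ^ q = g := by
    have h3 : (g ^ q) ^ (q + 1) = 1 := by rw [← pow_mul, mul_comm, pow_mul, hg, one_pow]
    calc (g ^ q) ^ q = (g ^ q) ^ q * (g ^ q * g) := by rw [hinv', mul_one]
      _ = (g ^ q) ^ (q + 1) * g := by rw [← mul_assoc, ← pow_succ]
      _ = g := by rw [h3, one_mul]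
  rw [hqq] at h2
  have h4 : (A.det - 1) • (g - g ^ q) = 0 := by
    linear_combination (norm := module) (1 : ℤ) • h2
  have h5 := sub_eq_zero.1 ((smul_eq_zero.1 h4).resolve_left (sub_ne_zero.2 hd))
  exact hne (by conv_lhs => arg 2; rw [h5]
                exact hinv)

variable {Ω : Type*} [Field Ω] {U : Type*} [AddCommGroup U] [Module Ω U]
variable {G : Type*} [Group G]

theorem conjNormal_inv_pow (R : Subgroup G) [R.Normal] (y : G) (i : ℕ) :
    (MulAut.conjNormal (H := R) y⁻¹) ^ i = MulAut.conjNormal (H := R) (y ^ i)⁻¹ := by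
  rw [← map_pow, inv_pow]

/-- Deficiency descends to the power fixing an eigenvalue. -/
theorem sum_period (π : G →* End Ω U) (R : Subgroup G) [R.Normal] (y : G) (χ : R →* Ω) (v : U)
    (hv : ∀ r : R, π r v = χ r • v) {m a : ℕ} (ha : a ≤ m)
    (hper : ∀ x, χ (((MulAut.conjNormal (H := R) y⁻¹) ^ 2 ^ a) x) = χ x)
    (hdist : ∀ i < 2 ^ a, ∀ j < 2 ^ a, i ≠ j → ∃ x, χ (((MulAut.conjNormal (H := R) y⁻¹) ^ i) x) ≠
      χ (((MulAut.conjNormal (H := R) y⁻¹) ^ j) x))
    (hsum : ∑ i ∈ Finset.range (2 ^ m), π (y ^ i) v = 0) :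
    ∑ j ∈ Finset.range (2 ^ (m - a)), π ((y ^ 2 ^ a) ^ j) v = 0 := by
  set γ := MulAut.conjNormal (H := R) y⁻¹ with hγ
  have hperj : ∀ (j : ℕ) x, χ ((γ ^ (2 ^ a * j)) x) = χ x := by
    intro j
    induction j with
    | zero => intro x; simp
    | succ j ih => intro x; rw [Nat.mul_succ, pow_add, MulAut.mul_apply, ih, hper]
  have heig : ∀ (i : ℕ) (r : R), π r (π (y ^ i) v) = χ ((γ ^ i) r) • π (y ^ i) v := by
    intro i r
    have h1 : (r : G) * y ^ i = y ^ i * (((γ ^ i) r : R) : G) := by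
      rw [hγ, conjNormal_inv_pow, MulAut.conjNormal_apply]
      group
    rw [← Module.End.mul_apply, ← map_mul, h1, map_mul, Module.End.mul_apply, hv, map_smul]
  have hsplit : 2 ^ m = 2 ^ a * 2 ^ (m - a) := by rw [← pow_add, Nat.add_sub_cancel' ha]
  rw [hsplit, sum_range_mul_split] at hsum
  have h := eq_zero_of_sum_eigen (fun r : R => π r) (fun i r => χ ((γ ^ i) r))
    (fun r => ∑ j ∈ Finset.range (2 ^ (m - a)), π (y ^ (r + 2 ^ a * j)) v) (Finset.range (2 ^ a))
    (fun i _ r => by
      rw [map_sum, Finset.smul_sum]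
      refine Finset.sum_congr rfl fun j _ => ?_
      rw [heig, add_comm i, pow_add γ, MulAut.mul_apply, hperj])
    (fun i hi j hj hne => hdist i (Finset.mem_range.1 hi) j (Finset.mem_range.1 hj) hne) hsum 0
    (Finset.mem_range.2 (Nat.two_pow_pos a))
  rw [← h]
  exact Finset.sum_congr rfl fun j _ => by rw [zero_add, pow_mul]

/-- The period of the character of an eigenvector is smaller than the order. -/
theorem period_lt (π : G →* End Ω U) (R : Subgroup G) [R.Normal] (y : G) (χ : R →* Ω) (v : U)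
    (hv : ∀ r : R, π r v = χ r • v) (hv0 : v ≠ 0) {m : ℕ} (hy : y ^ 2 ^ m = 1)
    (hsum : ∑ i ∈ Finset.range (2 ^ m), π (y ^ i) v = 0) :
    ∃ a, a < m ∧ (∀ x, χ (((MulAut.conjNormal (H := R) y⁻¹) ^ 2 ^ a) x) = χ x) ∧
      ∀ i < 2 ^ a, ∀ j < 2 ^ a, i ≠ j → ∃ x, χ (((MulAut.conjNormal (H := R) y⁻¹) ^ i) x) ≠
        χ (((MulAut.conjNormal (H := R) y⁻¹) ^ j) x) := by
  obtain ⟨a, ha, hper, hdist⟩ := exists_period (n := m) (MulAut.conjNormal (H := R) y⁻¹)
    (by rw [conjNormal_inv_pow, hy, inv_one, map_one]) χ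
  refine ⟨a, lt_of_le_of_ne ha fun h => hv0 ?_, hper, hdist⟩
  have h1 := sum_period π R y χ v hv ha hper hdist hsum
  subst h
  simpa using h1

theorem sum_apply_eq_zero (π : G →* End Ω U) {y : G} {N : ℕ}
    (h : ∑ i ∈ Finset.range N, π y ^ i = 0) (v : U) :
    ∑ i ∈ Finset.range N, π (y ^ i) v = 0 := by
  simp only [map_pow, ← LinearMap.sum_apply, h, LinearMap.zero_apply]

/-- An element of deficient degree: its involution centralises the invariant abelian subgroups of
odd order. -/
theorem top_centralises [IsAlgClosed Ω] [FiniteDimensional Ω U] [Finite G] (π : G →* End Ω U)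
    (hπ : Function.Injective π) (R : Subgroup G) [R.Normal]
    (hab : ∀ a ∈ R, ∀ b ∈ R, a * b = b * a) (hR : (Nat.card R : Ω) ≠ 0) {y : G} {m : ℕ}
    (hm : 1 ≤ m) (hy : y ^ 2 ^ m = 1) (hdef : ∑ i ∈ Finset.range (2 ^ m), π y ^ i = 0) :
    ∀ x ∈ R, y ^ 2 ^ (m - 1) * x * (y ^ 2 ^ (m - 1))⁻¹ = x := by
  intro x hx
  set z := y ^ 2 ^ (m - 1) with hz
  by_contra hne
  set γ := MulAut.conjNormal (H := R) y⁻¹
  have hzz : z⁻¹ = z := inv_eq_of_mul_eq_one_right (by
    rw [hz, ← pow_add, ← two_mul, ← pow_succ', Nat.sub_add_cancel hm, hy])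
  have hγz : ((((γ ^ 2 ^ (m - 1)) ⟨x, hx⟩) : R) : G) = z * x * z⁻¹ := by
    show ((((MulAut.conjNormal (H := R) y⁻¹) ^ 2 ^ (m - 1)) ⟨x, hx⟩ : R) : G) = _
    rw [conjNormal_inv_pow, MulAut.conjNormal_apply, ← hz, inv_inv, hzz]
  obtain ⟨u, hu0, χ, hu, hχ⟩ := exists_eigen_ne_one (π.comp R.subtype) (fun a b => by
      rw [← map_mul, ← map_mul]
      congr 1
      exact Subtype.ext (hab a a.2 b b.2)) hR
    (g := (γ ^ 2 ^ (m - 1)) ⟨x, hx⟩ * ⟨x, hx⟩⁻¹) (fun h => hne (by
      have h1 := hπ (h.trans (map_one π).symm)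
      simp only [Subgroup.coe_subtype, Subgroup.coe_mul, Subgroup.coe_inv, hγz] at h1
      exact mul_inv_eq_one.1 h1))
  obtain ⟨a, ha, hper, -⟩ := period_lt π R y χ u hu hu0 hy (sum_apply_eq_zero π hdef u)
  apply hχ
  have hperj : ∀ (j : ℕ) x, χ ((γ ^ (2 ^ a * j)) x) = χ x := by
    intro j
    induction j with
    | zero => intro x; simp
    | succ j ih => intro x; rw [Nat.mul_succ, pow_add, MulAut.mul_apply, ih, hper]
  rw [map_mul, show 2 ^ (m - 1) = 2 ^ a * 2 ^ (m - 1 - a) by rw [← pow_add]; congr 1; omega,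
    hperj, ← map_mul, mul_inv_cancel, map_one]

/-- An inverted plane whose fixed group is centralised. -/
theorem plane_factors {G : Type*} [Group G] [Finite G] [Group.IsSolvable G] {V : Type*}
    [CommGroup V] [Finite V] {q : ℕ} [Fact q.Prime] (hq2 : q ≠ 2) (hexp : ∀ e : V, e ^ q = 1)
    (ρ : G →* MulAut V) {u z : G} {n : ℕ} (hn2 : 2 ≤ n) (hun : u ^ 2 ^ n = 1)
    (hz : z = u ^ 2 ^ (n - 1)) (hqn : q + 1 = 2 ^ n)
    (hcard : Nat.card {e : V // ρ z e = e⁻¹} = q ^ 2) (hfix : ∀ e, ρ z e = e → ρ u e = e) :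
    ∃ P K : Subgroup G, P.Normal ∧ K.Normal ∧ z ∈ P ∧ (∀ h ∈ P, ∃ k, h ^ 2 ^ k ∈ K) ∧
      ∀ x ∈ K, ∀ j, x ^ 2 ^ j = 1 → ρ x = 1 := by
  classical
  haveI : Module (ZMod q) (Additive V) := addModule hexp
  haveI : Finite (Additive V) := inferInstanceAs (Finite V)
  haveI : Module.Finite (ZMod q) (Additive V) := Module.Finite.of_finite
  set σ : G →* Module.End (ZMod q) (Additive V) := (endHom q).comp ρ with hσdef
  have hσ : ∀ (g : G) (a : Additive V), σ g a = Additive.ofMul (ρ g a.toMul) := fun g a => rfl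
  set N := LinearMap.ker (σ z + 1) with hN
  have hmemN : ∀ a, a ∈ N ↔ σ z a = -a := fun a => by
    rw [hN, LinearMap.mem_ker, LinearMap.add_apply, Module.End.one_apply, add_eq_zero_iff_eq_neg]
  have hNdim : finrank (ZMod q) N = 2 := by
    have h1 : Nat.card N = q ^ 2 := by
      rw [← hcard]
      refine Nat.card_congr (Additive.toMul.subtypeEquiv fun a => ?_)
      rw [hmemN, hσ, ← Additive.toMul.injective.eq_iff, toMul_ofMul, toMul_neg]
    rw [Module.natCard_eq_pow_finrank (K := ZMod q), Nat.card_zmod] at h1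
    exact Nat.pow_right_injective (Fact.out : q.Prime).two_le h1
  have hgN : ∀ a ∈ N, σ u a ∈ N := fun a ha => by
    rw [hmemN] at ha ⊢
    rw [← Module.End.mul_apply, ← map_mul, hz, ← pow_succ, pow_succ', map_mul,
      Module.End.mul_apply, ← hz, ha, map_neg]
  set g := (σ u).restrict hgN with hg
  have hgpow : ∀ (i : ℕ) (a : N), ((g ^ i) a : Additive V) = σ (u ^ i) (a : Additive V) := by
    intro i
    induction i with
    | zero => intro a; simp
    | succ i ih =>
      intro a
      rw [pow_succ', Module.End.mul_apply, pow_succ', map_mul, Module.End.mul_apply, ← ih]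
      rfl
  obtain ⟨s, hs⟩ : ∃ s : ZMod q, g * g = s • g - 1 := by
    refine exists_quadratic hNdim g (LinearMap.ext fun a => Subtype.ext ?_) fun h => ?_
    · rw [hgpow, hqn, hun, map_one]; rfl
    · haveI : Nontrivial N := Module.nontrivial_of_finrank_pos (R := ZMod q) (by omega)
      obtain ⟨a, ha⟩ := exists_ne (0 : N)
      have h1 : g ^ 2 ^ (n - 1) = 1 := by
        rw [show 2 ^ (n - 1) = 2 * 2 ^ (n - 2) by rw [← pow_succ']; congr 1; omega, pow_mul,
          pow_two, h, one_pow]
      have h2 := congrArg Subtype.val (LinearMap.congr_fun h1 a)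
      rw [hgpow, ← hz, (hmemN _).1 a.2] at h2
      have h3 : (2 : ZMod q) • (a : Additive V) = 0 := by
        linear_combination (norm := module) (-1 : ℤ) • h2
      exact ha (Subtype.ext ((smul_eq_zero.1 h3).resolve_left
        (PlaneTop.two_ne_zero' (q := q) hq2)))
  have H : PlaneTop σ u n s :=
    { two_le := hn2
      pow_eq := hun
      three := fun h => by rw [h] at hqn; omega
      fix := fun a ha => by
        rw [← hz, hσ] at ha
        rw [hσ, hfix _ (congrArg Additive.toMul ha), ofMul_toMul]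
      quad := fun a ha => by
        rw [← hz, ← hmemN] at ha
        exact congrArg Subtype.val (LinearMap.congr_fun hs (⟨a, ha⟩ : N))
      dim := by rw [← hz]; exact hNdim.le }
  obtain ⟨P, K, hP, hK, hzP, hPK, hKtriv⟩ := factors H hq2
  refine ⟨P, K, hP, hK, hz ▸ hzP, hPK, fun x hx j hj => MulEquiv.ext fun e => ?_⟩
  exact congrArg Additive.toMul (LinearMap.congr_fun (hKtriv x hx j hj) (Additive.ofMul e))

/-- One central character. -/
theorem level [IsAlgClosed Ω] [CharP Ω 2] [FiniteDimensional Ω U] [Nontrivial U] [Finite G]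
    [Group.IsSolvable G] (π : G →* End Ω U) {q : ℕ} [Fact q.Prime] (hq2 : q ≠ 2)
    (C : Subgroup G) [C.Normal]
    (hexp : ∀ a ∈ C, a ^ q ∈ C ⊓ Subgroup.centralizer (C : Set G))
    (hcomm : ∀ a ∈ C, ∀ b ∈ C, ⁅a, b⁆ ∈ C ⊓ Subgroup.centralizer (C : Set G))
    (hscal : ∀ x ∈ C ⊓ Subgroup.centralizer (C : Set G), ∃ c : Ω, ∀ v, π x v = c • v)
    {y : G} {m : ℕ} (hy : y ^ 2 ^ m = 1) (hdef : ∑ i ∈ Finset.range (2 ^ m), π y ^ i = 0) :
    ∃ P K : Subgroup G, P.Normal ∧ K.Normal ∧ y ^ 2 ^ (m - 1) ∈ P ∧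
      (∀ h ∈ P, ∃ k, h ^ 2 ^ k ∈ K) ∧
      ∀ x ∈ K, ∀ j, x ^ 2 ^ j = 1 → ∀ c ∈ C, ∀ d ∈ C, π (⁅x, c⁆ * d) = π (d * ⁅x, c⁆) := by
  classical
  -- the radical
  let R : Subgroup G :=
    { carrier := {c | c ∈ C ∧ ∀ d ∈ C, π (c * d) = π (d * c)}
      one_mem' := ⟨one_mem _, fun d _ => by rw [one_mul, mul_one]⟩
      mul_mem' := fun {a b} ha hb => ⟨mul_mem ha.1 hb.1, fun d hd => by
        rw [mul_assoc, map_mul, hb.2 d hd, ← map_mul, ← mul_assoc, map_mul, ha.2 d hd, ← map_mul,
          mul_assoc]⟩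
      inv_mem' := fun {a} ha => ⟨inv_mem ha.1, fun d hd => by
        calc π (a⁻¹ * d) = π a⁻¹ * π (d * a) * π a⁻¹ := by
              rw [← map_mul, ← map_mul]; congr 1; group
          _ = π a⁻¹ * π (a * d) * π a⁻¹ := by rw [ha.2 d hd]
          _ = π (d * a⁻¹) := by rw [← map_mul, ← map_mul]; congr 1; group⟩ }
  have hRC : ∀ r ∈ R, r ∈ C := fun r hr => hr.1
  haveI hRn : R.Normal := ⟨fun c hc g => ⟨(inferInstance : C.Normal).conj_mem c hc.1 g,
    fun d hd => by
      calc π (g * c * g⁻¹ * d) = π g * π (c * (g⁻¹ * d * g⁻¹⁻¹)) * π g⁻¹ := by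
            rw [← map_mul, ← map_mul]; congr 1; group
        _ = π g * π ((g⁻¹ * d * g⁻¹⁻¹) * c) * π g⁻¹ := by
            rw [hc.2 _ ((inferInstance : C.Normal).conj_mem d hd g⁻¹)]
        _ = π (d * (g * c * g⁻¹)) := by rw [← map_mul, ← map_mul]; congr 1; group⟩⟩
  have hZR : ∀ x ∈ C ⊓ Subgroup.centralizer (C : Set G), x ∈ R := fun x hx =>
    ⟨hx.1, fun d hd => by rw [Subgroup.mem_centralizer_iff.1 hx.2 d hd]⟩
  -- a character of the radical
  obtain ⟨v, -, hv0, ν, hv⟩ := exists_char (π.comp R.subtype) ⊤ top_ne_bot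
    (fun _ _ _ => Submodule.mem_top) (fun a b w _ => by
      show π (a : G) (π (b : G) w) = π (b : G) (π (a : G) w)
      rw [← Module.End.mul_apply, ← map_mul, a.2.2 b (hRC b b.2), map_mul, Module.End.mul_apply])
  obtain ⟨b, hb, hper, hdist⟩ := period_lt π R y ν v hv hv0 hy (sum_apply_eq_zero π hdef v)
  set n := m - b with hn
  set u := y ^ 2 ^ b with hu
  have hun : u ^ 2 ^ n = 1 := by
    rw [hu, ← pow_mul, ← pow_add, hn, Nat.add_sub_cancel' hb.le, hy]
  have hzu : y ^ 2 ^ (m - 1) = u ^ 2 ^ (n - 1) := by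
    rw [hu, ← pow_mul, ← pow_add]; congr 2; omega
  let Uν : Submodule Ω U :=
    { carrier := {w | ∀ r : R, π r w = ν r • w}
      add_mem' := fun {w w'} hw hw' r => by rw [map_add, hw r, hw' r, smul_add]
      zero_mem' := fun r => by simp
      smul_mem' := fun c w hw r => by rw [map_smul, hw r, smul_comm] }
  haveI : Nontrivial Uν := ⟨⟨⟨v, hv⟩, 0, fun h => hv0 (congrArg Subtype.val h)⟩⟩
  have hUC : ∀ c ∈ C, ∀ w ∈ Uν, π c w ∈ Uν := fun c hc w hw r => by
    rw [← Module.End.mul_apply, ← map_mul, r.2.2 c hc, map_mul, Module.End.mul_apply, hw r,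
      map_smul]
  have hUu : ∀ w ∈ Uν, π u w ∈ Uν := fun w hw r => by
    have h1 : (r : G) * u = u * ((((MulAut.conjNormal (H := R) y⁻¹) ^ 2 ^ b) r : R) : G) := by
      rw [conjNormal_inv_pow, MulAut.conjNormal_apply, hu]
      group
    rw [← Module.End.mul_apply, ← map_mul, h1, map_mul, Module.End.mul_apply, hw, map_smul, hper]
  -- the section
  set R' := R.subgroupOf C with hR'
  haveI : R'.Normal := inferInstance
  let E := C ⧸ R'
  letI : CommGroup E :=
    { (inferInstance : Group E) with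
      mul_comm := fun e f => by
        obtain ⟨e, rfl⟩ := QuotientGroup.mk_surjective e
        obtain ⟨f, rfl⟩ := QuotientGroup.mk_surjective f
        rw [← QuotientGroup.mk_mul, ← QuotientGroup.mk_mul, QuotientGroup.eq,
          Subgroup.mem_subgroupOf]
        have : (((e * f)⁻¹ * (f * e) : C) : G) = ⁅(f : G)⁻¹, (e : G)⁻¹⁆ := by
          simp [commutatorElement_def, mul_assoc]
        rw [this]
        exact hZR _ (hcomm _ (inv_mem f.2) _ (inv_mem e.2)) }
  haveI : Fintype E := Fintype.ofFinite E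
  have hEexp : ∀ e : E, e ^ q = 1 := fun e => by
    obtain ⟨c, rfl⟩ := QuotientGroup.mk_surjective e
    exact (QuotientGroup.eq_one_iff _).2 (Subgroup.mem_subgroupOf.2 (hZR _ (hexp c c.2)))
  have hmapR : ∀ g : G, R'.map (MulAut.conjNormal (H := C) g).toMonoidHom = R' := by
    intro g
    refine Subgroup.eq_of_le_of_card_ge ?_
      (Subgroup.card_map_of_injective (MulAut.conjNormal (H := C) g).injective).ge
    rintro _ ⟨c, hc, rfl⟩
    exact hRn.conj_mem _ hc g
  let ρ : G →* MulAut E :=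
    { toFun := fun g => QuotientGroup.congr R' R' (MulAut.conjNormal g) (hmapR g)
      map_one' := MulEquiv.ext fun e => by
        obtain ⟨c, rfl⟩ := QuotientGroup.mk_surjective e
        show ((MulAut.conjNormal (1 : G) c : C) : E) = (c : E)
        rw [map_one, MulAut.one_apply]
      map_mul' := fun g h => MulEquiv.ext fun e => by
        obtain ⟨c, rfl⟩ := QuotientGroup.mk_surjective e
        show ((MulAut.conjNormal (g * h) c : C) : E) =
          ((MulAut.conjNormal g (MulAut.conjNormal h c) : C) : E)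
        rw [map_mul, MulAut.mul_apply] }
  have hρ : ∀ (g : G) (c : C), ρ g (c : E) = ((MulAut.conjNormal g c : C) : E) := fun g c => rfl
  have hrad : ∀ x, ρ x = 1 → ∀ c ∈ C, ∀ d ∈ C, π (⁅x, c⁆ * d) = π (d * ⁅x, c⁆) := by
    intro x hx c hc
    have h1 : ((MulAut.conjNormal x (⟨c, hc⟩ : C) : C) : E) = ((⟨c, hc⟩ : C) : E) := by
      rw [← hρ, hx]; rfl
    rw [eq_comm, QuotientGroup.eq, Subgroup.mem_subgroupOf, Subgroup.coe_mul, Subgroup.coe_inv,
      MulAut.conjNormal_apply] at h1
    have h2 := hRn.conj_mem _ h1 c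
    rw [show c * (c⁻¹ * (x * c * x⁻¹)) * c⁻¹ = ⁅x, c⁆ by
      rw [commutatorElement_def]; group] at h2
    exact h2.2
  -- the projective representation
  let rep : E → C := fun e => if e = 1 then 1 else e.out
  have hrep : ∀ e, ((rep e : C) : E) = e := fun e => by
    by_cases he : e = 1
    · simp [rep, he]
    · simp [rep, he]
  let T : E → End Ω Uν := fun e => (π (rep e : G)).restrict (hUC _ (rep e).2)
  choose ω hω using fun f e : E => hscal _ (hcomm _ (rep f).2 _ (rep e).2)
  have hswap : ∀ f e (w : U), π (rep f : G) (π (rep e : G) w) =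
      ω f e • π (rep e : G) (π (rep f : G) w) := fun f e w => by
    rw [← hω, ← Module.End.mul_apply, ← Module.End.mul_apply, ← Module.End.mul_apply, ← map_mul,
      ← map_mul, ← map_mul]
    congr 2
    rw [commutatorElement_def]; group
  have hcoset : ∀ a c : C, (a : E) = (c : E) → ∃ k : Ω, k ≠ 0 ∧
      ∀ w ∈ Uν, π (a : G) w = k • π (c : G) w := by
    intro a c hac
    have hr : (c : G)⁻¹ * (a : G) ∈ R := Subgroup.mem_subgroupOf.1 (QuotientGroup.eq.1 hac.symm)
    refine ⟨ν ⟨_, hr⟩, fun h0 => ?_, fun w hw => ?_⟩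
    · have h1 : ν ⟨_, hr⟩ * ν ⟨_, hr⟩⁻¹ = 1 := by rw [← map_mul, mul_inv_cancel, map_one]
      rw [h0, zero_mul] at h1
      exact zero_ne_one h1
    · conv_lhs => rw [show (a : G) = (c : G) * ((c : G)⁻¹ * a) by group, map_mul,
        Module.End.mul_apply]
      rw [hw ⟨_, hr⟩, map_smul]
  have D : ProjRep T ω :=
    { one := LinearMap.ext fun w => Subtype.ext (by simp [T, rep])
      mul := fun e f => by
        obtain ⟨k, hk0, hk⟩ := hcoset (rep e * rep f) (rep (e * f))
          (by rw [QuotientGroup.mk_mul, hrep, hrep, hrep])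
        refine ⟨k, hk0, LinearMap.ext fun w => Subtype.ext ?_⟩
        have h1 := hk w w.2
        rw [Subgroup.coe_mul, map_mul, Module.End.mul_apply] at h1
        exact h1
      swap := fun f e => LinearMap.ext fun w => Subtype.ext (hswap f e w)
      nondeg := fun e he => by
        by_contra hall
        push Not at hall
        refine he ?_
        rw [← hrep e, QuotientGroup.eq_one_iff, Subgroup.mem_subgroupOf]
        refine ⟨(rep e).2, fun d hd => ?_⟩
        have hr : (rep ((⟨d, hd⟩ : C) : E) : G)⁻¹ * d ∈ R :=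
          Subgroup.mem_subgroupOf.1 (QuotientGroup.eq.1 (hrep ((⟨d, hd⟩ : C) : E)))
        set f : E := ((⟨d, hd⟩ : C) : E) with hf
        have hfe : π ((rep e : G) * (rep f : G)) = π ((rep f : G) * (rep e : G)) :=
          LinearMap.ext fun w => by
            rw [map_mul, map_mul, Module.End.mul_apply, Module.End.mul_apply, hswap f e, hall,
              one_smul]
        have h2 := hr.2 (rep e : G) (rep e).2
        calc π ((rep e : G) * d) = π ((rep e : G) * (rep f : G)) * π ((rep f : G)⁻¹ * d) := by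
              rw [← map_mul]; congr 1; group
          _ = π (rep f : G) * π ((rep e : G) * ((rep f : G)⁻¹ * d)) := by
              rw [hfe, ← map_mul, ← map_mul]; congr 1; group
          _ = π (rep f : G) * π ((rep f : G)⁻¹ * d * (rep e : G)) := by rw [h2]
          _ = π (d * (rep e : G)) := by rw [← map_mul]; congr 1; group }
  set S : End Ω Uν := (π u).restrict hUu with hSdef
  have hSpow : ∀ (i : ℕ) (w : Uν), ((S ^ i) w : U) = π (u ^ i) (w : U) := by
    intro i
    induction i with
    | zero => intro w; simp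
    | succ i ih =>
      intro w
      rw [pow_succ', Module.End.mul_apply, pow_succ', map_mul, Module.End.mul_apply, ← ih]
      rfl
  have hSdef0 : ∑ i ∈ Finset.range (2 ^ n), S ^ i = 0 := LinearMap.ext fun w => Subtype.ext (by
    rw [LinearMap.sum_apply, AddSubmonoidClass.coe_finsetSum]
    simp only [hSpow]
    exact sum_period π R y ν w w.2 hb.le hper hdist (sum_apply_eq_zero π hdef w))
  have hST : ∀ e, ∃ c : Ω, c ≠ 0 ∧ S * T e = c • (T (ρ u e) * S) := by
    intro e
    obtain ⟨k, hk0, hk⟩ := hcoset (MulAut.conjNormal u (rep e)) (rep (ρ u e)) (by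
      rw [hrep]; conv_rhs => rw [← hrep e]
      rfl)
    refine ⟨k, hk0, LinearMap.ext fun w => Subtype.ext ?_⟩
    show π u (π (rep e : G) (w : U)) = k • π (rep (ρ u e) : G) (π u (w : U))
    rw [← hk _ (hUu _ w.2), MulAut.conjNormal_apply, ← Module.End.mul_apply,
      ← Module.End.mul_apply (f := π (u * _ * u⁻¹)), ← map_mul, ← map_mul]
    congr 2
    group
  -- the involution acts trivially
  by_cases htriv : ρ (y ^ 2 ^ (m - 1)) = 1
  · exact ⟨ρ.ker, ρ.ker, inferInstance, inferInstance, htriv, fun h hh => ⟨0, by simpa using hh⟩,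
      fun x hx _ _ => hrad x hx⟩
  have hn1 : 1 ≤ n := by omega
  rcases eq_or_lt_of_le hn1 with hn1 | hn2
  · exfalso
    refine htriv (MulEquiv.ext fun e => ?_)
    rw [hzu, ← hn1, Nat.sub_self, pow_zero, pow_one, MulAut.one_apply]
    have hS1 : S = 1 := by
      have h1 := hSdef0
      rw [← hn1, pow_one, Finset.sum_range_succ, Finset.sum_range_one, pow_zero, pow_one] at h1
      refine LinearMap.ext fun w => Subtype.ext ?_
      have h2 : (w : U) + (S w : U) = 0 := congrArg Subtype.val (LinearMap.congr_fun h1 w)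
      show (S w : U) = (w : U)
      have h3 : (2 : Ω) • (w : U) = 0 := by rw [CharTwo.two_eq_zero, zero_smul]
      rw [two_smul] at h3
      exact add_left_cancel (h2.trans h3.symm)
    obtain ⟨k, -, hk⟩ := hST e
    rw [hS1, one_mul, mul_one] at hk
    by_contra hne
    have h4 := D.independent (fun x => (if x = e then (1 : Ω) else 0) - if x = ρ u e then k else 0) (by
      refine (Finset.sum_eq_add e (ρ u e) (Ne.symm hne) (fun x _ hx => ?_)
        (fun h => absurd (Finset.mem_univ _) h) (fun h => absurd (Finset.mem_univ _) h)).trans ?_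
      · rw [if_neg hx.1, if_neg hx.2, sub_zero]
        exact zero_smul Ω (T x)
      · rw [if_pos rfl, if_neg (Ne.symm hne), if_neg hne, if_pos rfl, sub_zero, zero_sub, hk]
        module)
    have h5 := congrFun h4 e
    simp [Ne.symm hne] at h5
  have hn2 : 2 ≤ n := hn2
  have hρu : ρ u ^ 2 ^ (n - 1) = ρ (y ^ 2 ^ (m - 1)) := by rw [← map_pow, hzu]
  rcases plane D hq2 hEexp hn2 S
    (LinearMap.ext fun w => Subtype.ext (by rw [hSpow, hun, map_one]; rfl)) hSdef0 (ρ u)
    (by rw [← map_pow, hun, map_one]) hST with h | ⟨hqn, hcard, hfix⟩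
  · exact absurd (MulEquiv.ext fun e => by rw [← hρu, h]; rfl) htriv
  rw [hρu] at hcard hfix
  obtain ⟨P, K, hP, hK, hzP, hPK, hKtriv⟩ := plane_factors hq2 hEexp ρ hn2 hun hzu hqn hcard hfix
  exact ⟨P, K, hP, hK, hzP, hPK, fun x hx j hj => hrad x (hKtriv x hx j hj)⟩

end CfsgLib.PLocal.Gross
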