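import Cfsg.Agent.Lib.PLocal.Gross.Layer

/-!
In a solvable linear group over `GF(2)` with trivial `2`-core, the involution of a `2`-element of
deficient degree lies in `O_{2',2}`.
-/

set_option autoImplicit false
set_option linter.style.haveILetI false
set_option linter.unusedSectionVars false

namespace CfsgLib.PLocal.Gross

open Module Cfsg CfsgLib.Base CfsgLib.GrossFpf
open scoped commutatorElement TensorProduct

variable {Ω : Type*} [Field Ω] {U : Type*} [AddCommGroup U] [Module Ω U]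

/-- The layer of one central character of `C`. -/
theorem exists_layer [IsAlgClosed Ω] [CharP Ω 2] [FiniteDimensional Ω U] {Q : Type*} [Group Q]
    [Finite Q] [Group.IsSolvable Q] (π : Q →* End Ω U) {r : ℕ} [Fact r.Prime] (hr2 : r ≠ 2)
    (C : Subgroup Q) [C.Normal]
    (hexp : ∀ a ∈ C, a ^ r ∈ C ⊓ Subgroup.centralizer (C : Set Q))
    (hcomm : ∀ a ∈ C, ∀ b ∈ C, ⁅a, b⁆ ∈ C ⊓ Subgroup.centralizer (C : Set Q))
    {y : Q} {e : ℕ} (hy : y ^ 2 ^ e = 1) (hdef : ∑ i ∈ Finset.range (2 ^ e), π y ^ i = 0)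
    (μ : ↥(C ⊓ Subgroup.centralizer (C : Set Q)) →* Ω)
    (hμ : ∃ v : U, v ≠ 0 ∧ ∀ x : ↥(C ⊓ Subgroup.centralizer (C : Set Q)), π (x : Q) v = μ x • v) (Q₀ : Subgroup Q)
    (hQ₀ : ∀ g ∈ Q₀, ∀ x ∈ C ⊓ Subgroup.centralizer (C : Set Q), g * x * g⁻¹ = x)
    (hz : y ^ 2 ^ (e - 1) ∈ Q₀) :
    ∃ P K : Subgroup Q₀, P.Normal ∧ K.Normal ∧ ⟨_, hz⟩ ∈ P ∧ (∀ h ∈ P, ∃ k, h ^ 2 ^ k ∈ K) ∧
      ∀ x ∈ K, ∀ j, x ^ 2 ^ j = 1 → ∀ c ∈ C, ∀ d ∈ C, ∀ v : U,
        (∀ a : ↥(C ⊓ Subgroup.centralizer (C : Set Q)), π (a : Q) v = μ a • v) →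
          π ⁅⁅(x : Q), c⁆, d⁆ v = v := by
  classical
  haveI hZn : (C ⊓ Subgroup.centralizer (C : Set Q)).Normal := inferInstance
  -- the stabiliser of the character
  let G : Subgroup Q :=
    { carrier := {g | ∀ x : (C ⊓ Subgroup.centralizer (C : Set Q) : Subgroup Q), μ (MulAut.conjNormal g x) = μ x}
      one_mem' := fun x => by rw [map_one, MulAut.one_apply]
      mul_mem' := fun {a b} ha hb x => by rw [map_mul, MulAut.mul_apply, ha, hb]
      inv_mem' := fun {a} ha x => by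
        conv_rhs => rw [show x = MulAut.conjNormal a (MulAut.conjNormal a⁻¹ x) by
          rw [← MulAut.mul_apply, ← map_mul, mul_inv_cancel, map_one, MulAut.one_apply]]
        rw [ha] }
  have hfixG : ∀ g : Q, (∀ x ∈ (C ⊓ Subgroup.centralizer (C : Set Q) : Subgroup Q), g * x * g⁻¹ = x) → g ∈ G := fun g hg x => by
    congr 1
    exact Subtype.ext (by rw [MulAut.conjNormal_apply]; exact hg x x.2)
  have hQG : Q₀ ≤ G := fun g hg => hfixG g (hQ₀ g hg)
  have hCG : C ≤ G := fun c hc => hfixG c fun x hx => by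
    rw [Subgroup.mem_centralizer_iff.1 (Subgroup.mem_inf.1 hx).2 c hc, mul_inv_cancel_right]
  let Uμ : Submodule Ω U :=
    { carrier := {w | ∀ x : (C ⊓ Subgroup.centralizer (C : Set Q) : Subgroup Q), π (x : Q) w = μ x • w}
      add_mem' := fun {w w'} hw hw' x => by rw [map_add, hw x, hw' x, smul_add]
      zero_mem' := fun x => by simp
      smul_mem' := fun c w hw x => by rw [map_smul, hw x, smul_comm] }
  obtain ⟨v₀, hv₀0, hv₀⟩ := hμ
  haveI : Nontrivial Uμ := ⟨⟨⟨v₀, hv₀⟩, 0, fun h => hv₀0 (congrArg Subtype.val h)⟩⟩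
  have hinv : ∀ g ∈ G, ∀ w ∈ Uμ, π g w ∈ Uμ := fun g hg w hw x => by
    have h1 : (x : Q) * g = g * ((MulAut.conjNormal g⁻¹ x : (C ⊓ Subgroup.centralizer (C : Set Q) : Subgroup Q)) : Q) := by
      rw [MulAut.conjNormal_apply]; group
    rw [← Module.End.mul_apply, ← map_mul, h1, map_mul, Module.End.mul_apply, hw, map_smul,
      inv_mem (s := G) hg x]
  let πμ : G →* End Ω Uμ :=
    { toFun := fun g => (π (g : Q)).restrict (hinv g g.2)
      map_one' := LinearMap.ext fun w => Subtype.ext (by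
        show π ((1 : G) : Q) (w : U) = w
        rw [Subgroup.coe_one, map_one, Module.End.one_apply])
      map_mul' := fun g h => LinearMap.ext fun w => Subtype.ext (by
        show π ((g * h : G) : Q) (w : U) = π (g : Q) (π (h : Q) (w : U))
        rw [Subgroup.coe_mul, map_mul, Module.End.mul_apply]) }
  have hπμ : ∀ (g : G) (w : Uμ), ((πμ g w : Uμ) : U) = π (g : Q) (w : U) := fun g w => rfl
  -- the power of `y` fixing the character
  obtain ⟨a, ha, hper, hdist⟩ := period_lt π (C ⊓ Subgroup.centralizer (C : Set Q) : Subgroup Q) y μ v₀ hv₀ hv₀0 hy (sum_apply_eq_zero π hdef v₀)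
  have hy₁ : y ^ 2 ^ a ∈ G := by
    have h1 : (y ^ 2 ^ a)⁻¹ ∈ G := fun x => by
      have h2 := hper x
      rwa [conjNormal_inv_pow] at h2
    exact inv_mem_iff.1 h1
  set y₁ : G := ⟨y ^ 2 ^ a, hy₁⟩ with hy₁def
  set C' := C.subgroupOf G with hC'
  have hC'Z : ∀ x : G, (x : Q) ∈ (C ⊓ Subgroup.centralizer (C : Set Q) : Subgroup Q) → x ∈ C' ⊓ Subgroup.centralizer (C' : Set G) := fun x hx => by
    refine Subgroup.mem_inf.2 ⟨Subgroup.mem_subgroupOf.2 (Subgroup.mem_inf.1 hx).1, ?_⟩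
    rw [Subgroup.mem_centralizer_iff]
    intro c hc
    exact Subtype.ext (Subgroup.mem_centralizer_iff.1 (Subgroup.mem_inf.1 hx).2 (c : Q) hc)
  obtain ⟨P, K, hP, hK, hzP, hPK, hKc⟩ := level πμ (q := r) hr2 C'
    (fun b hb => hC'Z _ (hexp b hb))
    (fun b hb c hc => hC'Z _ (hcomm b hb c hc))
    (fun x hx => by
      obtain ⟨hxC, hxc⟩ := Subgroup.mem_inf.1 hx
      have hxZ : (x : Q) ∈ (C ⊓ Subgroup.centralizer (C : Set Q) : Subgroup Q) := Subgroup.mem_inf.2 ⟨hxC, Subgroup.mem_centralizer_iff.2 fun c hc =>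
        congrArg Subtype.val (Subgroup.mem_centralizer_iff.1 hxc ⟨c, hCG hc⟩ hc)⟩
      exact ⟨μ ⟨_, hxZ⟩, fun w => Subtype.ext (w.2 ⟨_, hxZ⟩)⟩)
    (y := y₁) (m := e - a)
    (Subtype.ext (by
      rw [Subgroup.coe_pow, hy₁def, ← pow_mul, ← pow_add, Nat.add_sub_cancel' ha.le, hy]
      rfl))
    (LinearMap.ext fun w => Subtype.ext (by
      rw [LinearMap.sum_apply, AddSubmonoidClass.coe_finsetSum]
      simp only [← map_pow, hπμ, Subgroup.coe_pow]
      exact sum_period π (C ⊓ Subgroup.centralizer (C : Set Q) : Subgroup Q) y μ w w.2 ha.le hper hdist (sum_apply_eq_zero π hdef w)))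
  have hztop : (y₁ : G) ^ 2 ^ (e - a - 1) = ⟨_, hQG hz⟩ := Subtype.ext (by
    show (y ^ 2 ^ a) ^ 2 ^ (e - a - 1) = y ^ 2 ^ (e - 1)
    rw [← pow_mul, ← pow_add]; congr 2; omega)
  refine ⟨P.comap (Subgroup.inclusion hQG), K.comap (Subgroup.inclusion hQG), inferInstance,
    inferInstance, ?_, fun h hh => ?_, fun x hx j hj c hc d hd v hv => ?_⟩
  · rw [Subgroup.mem_comap]
    rw [hztop] at hzP
    exact hzP
  · obtain ⟨k, hk⟩ := hPK _ hh
    exact ⟨k, by rw [Subgroup.mem_comap, map_pow]; exact hk⟩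
  · have h1 := hKc _ hx j (by rw [← map_pow, hj, map_one]) ⟨c, hCG hc⟩ hc ⟨d, hCG hd⟩ hd
    set w := ⁅Subgroup.inclusion hQG x, (⟨c, hCG hc⟩ : G)⁆ with hw
    have h2 : πμ ⁅w, (⟨d, hCG hd⟩ : G)⁆ = 1 := by
      rw [show ⁅w, (⟨d, hCG hd⟩ : G)⁆ = w * ⟨d, hCG hd⟩ * ((⟨d, hCG hd⟩ : G) * w)⁻¹ by
        rw [commutatorElement_def]; group, map_mul, h1, ← map_mul, mul_inv_cancel, map_one]
    exact congrArg Subtype.val (LinearMap.congr_fun h2 (⟨v, hv⟩ : Uμ))

/-- In a group acting with trivial `2`-core, the involution of a deficient element lies in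
`O_{2',2}`. -/
theorem top_mem_of_rep [IsAlgClosed Ω] [CharP Ω 2] [FiniteDimensional Ω U] {Q : Type*} [Group Q]
    [Finite Q] [Group.IsSolvable Q] (hO : pCore 2 Q = ⊥) (π : Q →* End Ω U)
    (hπ : Function.Injective π) {y : Q} {e : ℕ} (he : 1 ≤ e) (hy : y ^ 2 ^ e = 1)
    (hdef : ∑ i ∈ Finset.range (2 ^ e), π y ^ i = 0) :
    QuotientGroup.mk' (pPrimeCore 2 Q) (y ^ 2 ^ (e - 1)) ∈ pCore 2 (Q ⧸ pPrimeCore 2 Q) := by
  classical
  haveI : Fact (Nat.Prime 2) := ⟨Nat.prime_two⟩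
  choose C hC _hCself using fun r : Nat.Primes =>
    haveI := Fact.mk r.2; CfsgLib.KInf.exists_critical_core (r : ℕ) Q
  haveI hCn : ∀ r, (C r).Normal := fun r => (hC r).normal
  have hC2 : ∀ r, ∀ a ∈ C r, ∀ b ∈ C r,
      ⁅a, b⁆ ∈ C r ⊓ Subgroup.centralizer (C r : Set Q) := fun r a ha b hb =>
    (hC r).comm (Subgroup.commutator_mem_commutator ((hC r).le ha) hb)
  have hbot : ∀ r : Nat.Primes, (r : ℕ) = 2 → pCore (r : ℕ) Q = ⊥ := fun r hr => by
    rw [hr, hO]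
  have hcard : ∀ r : Nat.Primes, (r : ℕ) ≠ 2 →
      (Nat.card ↥(C r ⊓ Subgroup.centralizer (C r : Set Q)) : Ω) ≠ 0 := by
    intro r hr h0
    haveI := Fact.mk r.2
    obtain ⟨k, hk⟩ := IsPGroup.iff_card.1
      ((isPGroup_pCore (r : ℕ) Q).to_le (inf_le_left.trans (hC r).le) :
        IsPGroup (r : ℕ) ↥(C r ⊓ Subgroup.centralizer (C r : Set Q)))
    rw [CharP.cast_eq_zero_iff Ω 2, hk] at h0
    exact hr ((Nat.prime_dvd_prime_iff_eq Nat.prime_two r.2).1
      (Nat.prime_two.dvd_of_dvd_pow h0)).symm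
  set z := y ^ 2 ^ (e - 1) with hzdef
  let Q₀ : Subgroup Q :=
    { carrier := {g | ∀ r : Nat.Primes, ∀ x ∈ C r ⊓ Subgroup.centralizer (C r : Set Q),
        g * x * g⁻¹ = x}
      one_mem' := fun r x _ => by group
      mul_mem' := fun {g h} hg hh r x hx => by
        rw [show g * h * x * (g * h)⁻¹ = g * (h * x * h⁻¹) * g⁻¹ by group, hh r x hx, hg r x hx]
      inv_mem' := fun {g} hg r x hx => by
        conv_lhs => rw [← hg r x hx]
        group }
  haveI hQ₀n : Q₀.Normal := ⟨fun g hg h r x hx => by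
    have h1 := hg r _ ((inferInstance :
      (C r ⊓ Subgroup.centralizer (C r : Set Q)).Normal).conj_mem x hx h⁻¹)
    calc h * g * h⁻¹ * x * (h * g * h⁻¹)⁻¹ = h * (g * (h⁻¹ * x * h⁻¹⁻¹) * g⁻¹) * h⁻¹ := by group
      _ = h * (h⁻¹ * x * h⁻¹⁻¹) * h⁻¹ := by rw [h1]
      _ = x := by group⟩
  have hz : z ∈ Q₀ := by
    intro r x hx
    by_cases hr : (r : ℕ) = 2
    · have h1 := (hC r).le (Subgroup.mem_inf.1 hx).1
      rw [hbot r hr, Subgroup.mem_bot] at h1
      rw [h1, mul_one, mul_inv_cancel]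
    · exact top_centralises π hπ (C r ⊓ Subgroup.centralizer (C r : Set Q))
        (fun a ha b hb => Subgroup.mem_centralizer_iff.1 hb.2 a ha.1) (hcard r hr) he hy hdef x hx
  let I := {p : Σ r : Nat.Primes, (↥(C r ⊓ Subgroup.centralizer (C r : Set Q)) →* Ω) //
    (p.1 : ℕ) ≠ 2 ∧ ∃ v : U, v ≠ 0 ∧
      ∀ x : ↥(C p.1 ⊓ Subgroup.centralizer (C p.1 : Set Q)), π (x : Q) v = p.2 x • v}
  have key : ∀ i : I, ∃ P K : Subgroup Q₀, P.Normal ∧ K.Normal ∧ ⟨_, hz⟩ ∈ P ∧
      (∀ h ∈ P, ∃ k, h ^ 2 ^ k ∈ K) ∧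
      ∀ x ∈ K, ∀ j, x ^ 2 ^ j = 1 → ∀ c ∈ C i.1.1, ∀ d ∈ C i.1.1, ∀ v : U,
        (∀ a : ↥(C i.1.1 ⊓ Subgroup.centralizer (C i.1.1 : Set Q)),
          π (a : Q) v = i.1.2 a • v) → π ⁅⁅(x : Q), c⁆, d⁆ v = v := fun i => by
    haveI := Fact.mk i.1.1.2
    exact exists_layer π i.2.1 (C i.1.1) (hC i.1.1).exp (hC2 i.1.1) hy hdef i.1.2 i.2.2 Q₀
      (fun g hg => hg i.1.1) hz
  choose P K hPn hKn hzP hPK hKc using key
  let P₀ : Subgroup Q₀ := ⨅ i, P i
  let K₀ : Subgroup Q₀ := ⨅ i, K i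
  haveI : P₀.Normal := Subgroup.normal_iInf_normal hPn
  haveI : K₀.Normal := Subgroup.normal_iInf_normal hKn
  -- a `2`-element of `K₀` centralises the Fitting subgroup
  have hK₀2 : ∀ x ∈ K₀, ∀ j, x ^ 2 ^ j = 1 → x = 1 := by
    intro x hx j hj
    have hjQ : (x : Q) ^ 2 ^ j = 1 := congrArg Subtype.val hj
    have hxc : ∀ r : Nat.Primes, (x : Q) ∈ Subgroup.centralizer (pCore (r : ℕ) Q : Set Q) := by
      intro r
      haveI := Fact.mk r.2
      by_cases hr : (r : ℕ) = 2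
      · rw [hbot r hr, Subgroup.mem_centralizer_iff]
        intro a ha
        rw [SetLike.mem_coe, Subgroup.mem_bot] at ha
        rw [ha, one_mul, mul_one]
      have hcop : (orderOf (x : Q)).Coprime (r : ℕ) :=
        Nat.Coprime.coprime_dvd_left (orderOf_dvd_of_pow_eq_one hjQ)
          (((Nat.coprime_primes Nat.prime_two r.2).2 (Ne.symm hr)).pow_left j)
      refine (hC r).faithful _ (Subgroup.mem_centralizer_iff.2 fun c hc => ?_) hcop
      set w := ⁅(x : Q), c⁆ with hw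
      have hwC : w ∈ C r := by
        rw [hw, commutatorElement_def]
        exact mul_mem ((hCn r).conj_mem c hc _) (inv_mem hc)
      have hwZ : w ∈ C r ⊓ Subgroup.centralizer (C r : Set Q) := by
        refine Subgroup.mem_inf.2 ⟨hwC, Subgroup.mem_centralizer_iff.2 fun d hd => ?_⟩
        suffices h : ⁅w, d⁆ = 1 from (commutatorElement_eq_one_iff_mul_comm.1 h).symm
        by_contra hne
        obtain ⟨v, hv0, μ, hv, hμ⟩ := exists_eigen_ne_one
          (π.comp (C r ⊓ Subgroup.centralizer (C r : Set Q)).subtype)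
          (fun a b => by
            rw [← map_mul, ← map_mul]
            congr 1
            exact Subtype.ext (Subgroup.mem_centralizer_iff.1 b.2.2 a a.2.1))
          (hcard r hr) (g := ⟨⁅w, d⁆, hC2 r w hwC d hd⟩)
          (fun h => hne (hπ (h.trans (map_one π).symm)))
        let i : I := ⟨⟨r, μ⟩, hr, v, hv0, hv⟩
        have h1 : π ⁅w, d⁆ v = v := hKc i x (Subgroup.mem_iInf.1 hx i) j hj c hc d hd v hv
        have h2 : π ⁅w, d⁆ v = μ ⟨⁅w, d⁆, hC2 r w hwC d hd⟩ • v :=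
          hv ⟨⁅w, d⁆, hC2 r w hwC d hd⟩
        rw [h1] at h2
        exact hμ (smul_left_injective Ω hv0 (h2.symm.trans (one_smul Ω v).symm))
      have hx1 : (x : Q) * c * (x : Q)⁻¹ = w * c := by
        rw [hw, commutatorElement_def, inv_mul_cancel_right]
      have hfix : (x : Q) * w * (x : Q)⁻¹ = w := x.2 r w hwZ
      have hiter : ∀ k : ℕ, (x : Q) ^ k * c * ((x : Q) ^ k)⁻¹ = w ^ k * c := by
        intro k
        induction k with
        | zero => simp
        | succ k ih =>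
          have hfix' : (x : Q) * w ^ k * (x : Q)⁻¹ = w ^ k := by rw [← conj_pow, hfix]
          calc (x : Q) ^ (k + 1) * c * ((x : Q) ^ (k + 1))⁻¹
              = (x : Q) * ((x : Q) ^ k * c * ((x : Q) ^ k)⁻¹) * (x : Q)⁻¹ := by group
            _ = ((x : Q) * w ^ k * (x : Q)⁻¹) * ((x : Q) * c * (x : Q)⁻¹) := by rw [ih]; group
            _ = w ^ (k + 1) * c := by rw [hfix', hx1, ← mul_assoc, ← pow_succ]
      have h1 := hiter (2 ^ j)
      rw [hjQ, one_mul, inv_one, mul_one, right_eq_mul] at h1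
      obtain ⟨k, hk⟩ := (isPGroup_pCore (r : ℕ) Q) ⟨w, (hC r).le hwC⟩
      have hw1 : w = 1 := orderOf_eq_one_iff.1 (Nat.eq_one_of_dvd_coprimes
        ((((Nat.coprime_primes Nat.prime_two r.2).2 (Ne.symm hr)).pow_left j).pow_right k)
        (orderOf_dvd_of_pow_eq_one h1) (orderOf_dvd_of_pow_eq_one (congrArg Subtype.val hk)))
      rw [hw, commutatorElement_eq_one_iff_mul_comm] at hw1
      exact hw1.symm
    have hxF : (x : Q) ∈ fittingSubgroup Q := centralizer_fittingSubgroup_le (by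
      rw [Subgroup.mem_centralizer_iff]
      have hle : fittingSubgroup Q ≤ Subgroup.centralizer {(x : Q)} := by
        rw [fittingSubgroup_eq_iSup_pCore, iSup_le_iff]
        intro r a ha
        rw [Subgroup.mem_centralizer_singleton_iff]
        exact Subgroup.mem_centralizer_iff.1 (hxc r) a ha
      intro a ha
      exact Subgroup.mem_centralizer_singleton_iff.1 (hle ha))
    have h2 := mem_pCore_of_mem_fitting (r := 2) hxF hjQ
    rw [hO, Subgroup.mem_bot] at h2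
    exact Subtype.ext h2
  have hK₀odd : (Nat.card K₀).Coprime 2 := by
    refine (Nat.prime_two.coprime_iff_not_dvd.2 fun hd => ?_).symm
    obtain ⟨g, hg⟩ := exists_prime_orderOf_dvd_card' 2 hd
    have h1 : (g : Q₀) = 1 := hK₀2 g g.2 1 (by
      rw [pow_one, ← Subgroup.coe_pow, ← hg, pow_orderOf_eq_one, Subgroup.coe_one])
    rw [show g = 1 from Subtype.ext h1, orderOf_one] at hg
    omega
  have hK₀le : K₀.map Q₀.subtype ≤ pPrimeCore 2 Q :=
    (Subgroup.map_mono (le_pPrimeCore hK₀odd)).trans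
      ((map_pPrimeCore_eq_inf Q₀).le.trans inf_le_left)
  -- the image of `P₀`
  set f := (QuotientGroup.mk' (pPrimeCore 2 Q)).comp Q₀.subtype with hf
  have hfK : ∀ g ∈ K₀, f g = 1 := fun g hg =>
    (QuotientGroup.eq_one_iff _).2 (hK₀le ⟨g, hg, rfl⟩)
  haveI : f.range.Normal := by
    rw [hf, MonoidHom.range_comp, Subgroup.range_subtype]
    exact hQ₀n.map _ (QuotientGroup.mk'_surjective _)
  haveI : (P₀.map f.rangeRestrict).Normal :=
    Subgroup.Normal.map inferInstance _ f.rangeRestrict_surjective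
  have hP2 : IsPGroup 2 (P₀.map f.rangeRestrict) := by
    rintro ⟨_, h, hh, rfl⟩
    obtain ⟨k, m, hm, hkm⟩ := Nat.exists_eq_two_pow_mul_odd (orderOf_pos h).ne'
    refine ⟨k, Subtype.ext ?_⟩
    rw [Subgroup.coe_pow, Subgroup.coe_one, ← map_pow]
    refine Subtype.ext (hfK _ (Subgroup.mem_iInf.2 fun i => ?_))
    obtain ⟨l, hl⟩ := hPK i h (Subgroup.mem_iInf.1 hh i)
    have hord : orderOf (h ^ 2 ^ k) = m := by
      rw [orderOf_pow_of_dvd (by positivity) (hkm ▸ dvd_mul_right _ m), hkm,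
        Nat.mul_div_cancel_left _ (by positivity)]
    obtain ⟨t, ht⟩ := exists_pow_eq_self_of_coprime (x := h ^ 2 ^ k) (n := 2 ^ l) (by
      rw [hord]; exact (hm.coprime_two_left).pow_left l)
    rw [← ht, ← pow_mul h, mul_comm (2 ^ k), pow_mul]
    exact pow_mem (pow_mem hl _) _
  have hzP₀ : (⟨z, hz⟩ : Q₀) ∈ P₀ := Subgroup.mem_iInf.2 hzP
  have h1 : f ⟨z, hz⟩ ∈ (pCore 2 f.range).map f.range.subtype :=
    ⟨_, le_pCore hP2 ⟨_, hzP₀, rfl⟩, rfl⟩
  exact ((map_pCore_eq_inf f.range).le.trans inf_le_left) h1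

/-- The same over `GF(2)`. -/
theorem top_mem {Q : Type*} [Group Q] [Finite Q] [Group.IsSolvable Q] (hO : pCore 2 Q = ⊥)
    {V : Type*} [AddCommGroup V] [Module (ZMod 2) V] [Finite V] (ι : Q →* (V ≃ₗ[ZMod 2] V))
    (hι : Function.Injective ι) {y : Q} {e : ℕ} (he : 1 ≤ e) (hy : y ^ 2 ^ e = 1)
    (hdef : ∑ i ∈ Finset.range (2 ^ e), (ι y : Module.End (ZMod 2) V) ^ i = 0) :
    QuotientGroup.mk' (pPrimeCore 2 Q) (y ^ 2 ^ (e - 1)) ∈ pCore 2 (Q ⧸ pPrimeCore 2 Q) := by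
  haveI : Fact (Nat.Prime 2) := ⟨Nat.prime_two⟩
  haveI : FiniteDimensional (ZMod 2) V := Module.Finite.of_finite
  haveI : CharP (AlgebraicClosure (ZMod 2)) 2 :=
    charP_of_injective_algebraMap
      (algebraMap (ZMod 2) (AlgebraicClosure (ZMod 2))).injective 2
  let ι' : Q →* Module.End (ZMod 2) V :=
    { toFun := fun g => (ι g : Module.End (ZMod 2) V)
      map_one' := by rw [map_one]; rfl
      map_mul' := fun g h => by rw [map_mul]; rfl }
  let π := (Module.End.baseChangeHom (ZMod 2) (AlgebraicClosure (ZMod 2)) V).toMonoidHom.comp ι'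
  refine top_mem_of_rep hO π ?_ he hy ?_
  · intro g h hgh
    exact hι (LinearEquiv.toLinearMap_injective (LinearMap.baseChangeHom_injective (ZMod 2) V
      (AlgebraicClosure (ZMod 2)) hgh))
  · have h := congrArg (Module.End.baseChangeHom (ZMod 2) (AlgebraicClosure (ZMod 2)) V) hdef
    simp only [map_sum, map_pow, map_zero] at h
    exact h

end CfsgLib.PLocal.Gross
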