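import Cfsg.Agent.Lib.PLocal.Gross.Deficient
import Cfsg.Agent.Lib.GrossFpf.Projective

/-!
A projective representation in characteristic two of an abelian `q`-group, normalised by an
operator `S` of order `2 ^ n` of deficient degree: the involution induced by `S` is trivial, or
`q + 1 = 2 ^ n`, it inverts a plane and `S` centralises its fixed group.
-/

set_option autoImplicit false
set_option linter.style.haveILetI false
set_option linter.unusedSectionVars false

namespace CfsgLib.PLocal.Gross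

open Module CfsgLib.GrossFpf

variable {Ω : Type*} [Field Ω] {U : Type*} [AddCommGroup U] [Module Ω U]
variable {E : Type*} [CommGroup E] [Fintype E] {T : E → End Ω U} {ω : E → E → Ω}

/-- The combinations of the `T e`. -/
def spanMap (T : E → End Ω U) : (E → Ω) →ₗ[Ω] End Ω U where
  toFun a := ∑ e, a e • T e
  map_add' a b := by simp [add_smul, Finset.sum_add_distrib]
  map_smul' r a := by simp [Finset.smul_sum, smul_smul]

theorem spanMap_apply (a : E → Ω) : spanMap T a = ∑ e, a e • T e := rfl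

theorem mem_span (D : ProjRep T ω) :
    (1 : End Ω U) ∈ LinearMap.range (spanMap T) ∧ (∀ e, T e ∈ LinearMap.range (spanMap T)) ∧
      ∀ X Z, X ∈ LinearMap.range (spanMap T) → Z ∈ LinearMap.range (spanMap T) →
        X * Z ∈ LinearMap.range (spanMap T) := by
  classical
  have hAT : ∀ e, T e ∈ LinearMap.range (spanMap T) := fun e =>
    ⟨fun x => if x = e then 1 else 0, by simp [spanMap_apply]⟩
  refine ⟨D.one ▸ hAT 1, hAT, ?_⟩
  rintro _ _ ⟨a, rfl⟩ ⟨b, rfl⟩
  rw [spanMap_apply, spanMap_apply, Finset.sum_mul]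
  refine Submodule.sum_mem _ fun e _ => ?_
  rw [Finset.mul_sum]
  refine Submodule.sum_mem _ fun f _ => ?_
  obtain ⟨d, -, hd⟩ := D.mul e f
  rw [smul_mul_smul_comm, hd, smul_smul]
  exact Submodule.smul_mem _ _ (hAT _)

/-- The intertwiner of an operator whose automorphism has no fixed points. -/
theorem exists_intertwiner [Nontrivial U] (D : ProjRep T ω) {N : ℕ} (hN : 1 ≤ N) (S : End Ω U)
    (hS : S ^ N = 1) (ρ : MulAut E)
    (hST : ∀ e, ∃ c : Ω, c ≠ 0 ∧ S * T e = c • (T (ρ e) * S))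
    (hfree : ∀ e, ρ e = e → e = 1) :
    ∃ Y ∈ LinearMap.range (spanMap T), Y ≠ 0 ∧ S * Y = Y * S ∧
      ∀ f, S * T f * Y = Y * T f * S := by
  classical
  choose c hc0 hc using hST
  set S' := S ^ (N - 1) with hS'
  have hSS' : S * S' = 1 := by rw [hS', ← pow_succ', Nat.sub_add_cancel hN, hS]
  have hS'S : S' * S = 1 := by rw [hS', ← pow_succ, Nat.sub_add_cancel hN, hS]
  set θ := fun X : End Ω U => S * X * S' with hθ
  have hθmul : ∀ X Z, θ (X * Z) = θ X * θ Z := fun X Z => by
    simp only [hθ, mul_assoc]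
    rw [← mul_assoc S' S, hS'S, one_mul]
  have hθsmul : ∀ (a : Ω) X, θ (a • X) = a • θ X := fun a X => by
    simp only [hθ, mul_smul_comm, smul_mul_assoc]
  have hθT : ∀ e, θ (T e) = c e • T (ρ e) := fun e => by
    show S * T e * S' = _
    rw [hc, smul_mul_assoc, mul_assoc, hSS', mul_one]
  have hθinv : ∀ e, θ (D.inv e) = (c e)⁻¹ • D.inv (ρ e) := by
    intro e
    refine left_inv_eq_right_inv (a := c e • T (ρ e)) ?_ ?_
    · rw [← hθT, ← hθmul, D.inv_mul_self]
      simp [hθ, hSS']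
    · rw [smul_mul_smul_comm, D.mul_inv_self, mul_inv_cancel₀ (hc0 e), one_smul]
  set Y := ∑ e, θ (T e) * D.inv e with hY
  have hYT : ∀ f, θ (T f) * Y = Y * T f := by
    intro f
    rw [hY, Finset.mul_sum, Finset.sum_mul]
    refine Fintype.sum_equiv (Equiv.mulLeft f) _ _ fun e => ?_
    show θ (T f) * (θ (T e) * D.inv e) = θ (T (f * e)) * D.inv (f * e) * T f
    obtain ⟨d, hd, h1, h2⟩ := D.inv_mul f e
    rw [← mul_assoc, ← hθmul, h1, hθsmul,
      show D.inv e = (D.inv e * D.inv f) * T f by rw [mul_assoc, D.inv_mul_self, mul_one], h2]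
    simp only [smul_mul_assoc, mul_smul_comm, mul_assoc, smul_smul, inv_mul_cancel₀ hd, one_smul]
  have hYfix : θ Y = Y := by
    have hθsum : θ Y = ∑ e, θ (θ (T e) * D.inv e) := by
      simp only [hθ, hY, Finset.mul_sum, Finset.sum_mul]
    rw [hθsum]
    refine Fintype.sum_equiv ρ.toEquiv _ _ fun e => ?_
    show θ (θ (T e) * D.inv e) = θ (T (ρ e)) * D.inv (ρ e)
    rw [hθmul, hθinv]
    conv_lhs => rw [hθT, hθsmul]
    rw [smul_mul_smul_comm, mul_inv_cancel₀ (hc0 e), one_smul]
  have hYS : S * Y = Y * S := by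
    conv_rhs => rw [← hYfix]
    simp only [hθ, mul_assoc, hS'S, mul_one]
  have hterm : ∀ e, ∃ a : Ω, a ≠ 0 ∧ θ (T e) * D.inv e = a • T (ρ e * e⁻¹) := by
    intro e
    obtain ⟨a, ha⟩ := D.inv_eq e
    have ha0 : a ≠ 0 := fun h => by
      have := D.mul_inv_self e
      rw [ha, h, zero_smul, mul_zero] at this
      exact zero_ne_one this
    obtain ⟨d, hd, hd'⟩ := D.mul (ρ e) e⁻¹
    exact ⟨c e * a * d, mul_ne_zero (mul_ne_zero (hc0 e) ha0) hd, by
      rw [hθT, ha, smul_mul_smul_comm, hd', smul_smul]⟩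
  choose a ha0 hat using hterm
  have hδ : Function.Bijective fun e : E => ρ e * e⁻¹ := by
    refine Finite.injective_iff_bijective.1 fun e f hef => ?_
    refine mul_inv_eq_one.1 (hfree (e * f⁻¹) ?_)
    rw [map_mul, map_inv]
    replace hef : ρ e * e⁻¹ = ρ f * f⁻¹ := hef
    have h : ρ e = ρ f * f⁻¹ * e := by rw [← hef, inv_mul_cancel_right]
    rw [h, mul_right_comm (ρ f) f⁻¹ e, mul_comm (ρ f), mul_assoc, mul_assoc, mul_comm f⁻¹,
      ← mul_assoc (ρ f), mul_inv_cancel, one_mul]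
  let δ : E ≃ E := Equiv.ofBijective _ hδ
  have hYb : spanMap T (fun x => a (δ.symm x)) = Y := by
    rw [hY, spanMap_apply]
    refine (Fintype.sum_equiv δ _ _ fun e => ?_).symm
    rw [hat, Equiv.symm_apply_apply]
    rfl
  refine ⟨Y, ⟨_, hYb⟩, fun h => ?_, hYS, fun f => ?_⟩
  · have h1 := D.independent (fun x => a (δ.symm x)) (by rw [← spanMap_apply, hYb, h])
    exact ha0 _ (congrFun h1 1)
  · rw [← hYT f]
    simp only [hθ, mul_assoc]
    rw [← hYS, ← mul_assoc S' S, hS'S, one_mul]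

/-- An element of the span vanishing on an invariant subspace is zero. -/
theorem eq_zero_of_vanish (D : ProjRep T ω) (X : Submodule Ω U) (hX : X ≠ ⊥)
    (hXinv : ∀ e, ∀ u ∈ X, T e u ∈ X) {Z : End Ω U} (hZ : Z ∈ LinearMap.range (spanMap T))
    (hz : ∀ u ∈ X, Z u = 0) : Z = 0 := by
  obtain ⟨b, rfl⟩ := hZ
  haveI : Nontrivial X := Submodule.nontrivial_iff_ne_bot.2 hX
  have := (D.restrict X hXinv).independent b (LinearMap.ext fun u => Subtype.ext (by
    have h := hz u u.2
    rw [spanMap_apply, LinearMap.sum_apply] at h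
    simpa [LinearMap.sum_apply] using h))
  rw [this, map_zero]

/-- Coefficients commuting with the `T e` of an independent family in the span vanish. -/
theorem coeff_eq_zero [Nontrivial U] (D : ProjRep T ω) (hE : (Fintype.card E : Ω) ≠ 0) {ι : Type*}
    [Fintype ι] (b : ι → End Ω U) (hb : ∀ j, b j ∈ LinearMap.range (spanMap T))
    (hind : LinearIndependent Ω b) (X : ι → End Ω U) (hX : ∀ j e, X j * T e = T e * X j)
    (hsum : ∑ j, X j * b j = 0) : ∀ j, X j = 0 := by
  classical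
  choose a ha using hb
  have hsum' : ∑ e, (∑ j, a j e • X j) * T e = 0 := by
    rw [← hsum]
    simp only [← ha, spanMap_apply, Finset.mul_sum, Finset.sum_mul, smul_mul_assoc, mul_smul_comm]
    exact Finset.sum_comm
  have hXe : ∀ e, ∑ j, a j e • X j = 0 := by
    intro f₀
    set Z := fun e => ∑ j, a j e • X j with hZ
    have hZc : ∀ e g, Z e * T g = T g * Z e := fun e g => by
      simp only [hZ, Finset.mul_sum, Finset.sum_mul, smul_mul_assoc, mul_smul_comm, hX]
    have key : ∀ g, ∑ e, (ω g e * (ω g f₀)⁻¹) • (Z e * T e) = 0 := by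
      intro g
      have h1 : ∀ e, T g * (Z e * T e) * D.inv g = ω g e • (Z e * T e) := fun e => by
        rw [← mul_assoc, ← hZc, mul_assoc, mul_assoc, show T g * (T e * D.inv g) = D.conj g (T e)
          from (mul_assoc _ _ _).symm, D.conj_T, mul_smul_comm]
      have h2 : ∑ e, ω g e • (Z e * T e) = 0 := by
        rw [← Finset.sum_congr rfl fun e _ => h1 e, ← Finset.sum_mul, ← Finset.mul_sum, hsum']
        simp
      rw [← smul_zero ((ω g f₀)⁻¹), ← h2, Finset.smul_sum]
      simp only [smul_smul, mul_comm]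
    have h3 : ∀ e, e ≠ f₀ → ∑ g, ω g e * (ω g f₀)⁻¹ = 0 := by
      intro e he
      obtain ⟨g₀, hg₀⟩ := D.nondeg (e * f₀⁻¹) (fun h => he (mul_inv_eq_one.1 h))
      have hw : ∀ g, ω g e * (ω g f₀)⁻¹ = ω g (e * f₀⁻¹) := fun g => by
        rw [D.form_mul_right]
        congr 1
        refine (eq_inv_of_mul_eq_one_left ?_).symm
        rw [← D.form_mul_right, inv_mul_cancel]
        have h := D.form_mul_right g 1 1
        rw [mul_one] at h
        exact (mul_eq_left₀ (D.form_ne_zero g 1)).1 h.symm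
      simp only [hw]
      set s := ∑ g, ω g (e * f₀⁻¹) with hs
      have h4 : ω g₀ (e * f₀⁻¹) * s = s := by
        rw [hs, Finset.mul_sum]
        exact Fintype.sum_equiv (Equiv.mulLeft g₀) _ _ fun g => (D.form_mul_left g₀ g _).symm
      by_contra hne
      exact hg₀ ((mul_eq_right₀ hne).1 h4)
    have h5 : ∑ g, ∑ e, (ω g e * (ω g f₀)⁻¹) • (Z e * T e) = 0 :=
      Finset.sum_eq_zero fun g _ => key g
    rw [Finset.sum_comm, Finset.sum_eq_single f₀ (fun e _ he => by
      rw [← Finset.sum_smul, h3 e he, zero_smul]) (fun h => absurd (Finset.mem_univ f₀) h),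
      ← Finset.sum_smul] at h5
    simp only [mul_inv_cancel₀ (D.form_ne_zero _ f₀), Finset.sum_const, Finset.card_univ,
      nsmul_eq_mul, mul_one] at h5
    have h6 := congrArg (· * D.inv f₀) ((smul_eq_zero.1 h5).resolve_left hE)
    simpa [mul_assoc, D.mul_inv_self] using h6
  intro j
  refine (Module.forall_dual_apply_eq_zero_iff Ω (X j)).1 fun φ => ?_
  refine Fintype.linearIndependent_iff.1 hind (fun j => φ (X j)) ?_ j
  simp only [← ha, ← map_smul, ← map_sum]
  rw [show (∑ j, φ (X j) • a j) = 0 from funext fun e => ?_, map_zero]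
  have h := congrArg φ (hXe e)
  simpa [map_sum, Finset.sum_apply, mul_comm] using h

theorem linearIndependent_pow (s : End Ω U) {d : ℕ} (hd : s ^ d ≠ 0) (hd1 : s ^ (d + 1) = 0) :
    LinearIndependent Ω (fun j : Fin (d + 1) => s ^ (j : ℕ)) := by
  classical
  rw [Fintype.linearIndependent_iff]
  intro a ha
  suffices key : ∀ k, ∀ j : Fin (d + 1), (j : ℕ) = k → a j = 0 from fun j => key _ j rfl
  intro k
  induction k using Nat.strong_induction_on with
  | _ k ih =>
    intro j hj
    have h := congrArg (s ^ (d - k) * ·) ha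
    simp only [Finset.mul_sum, mul_smul_comm, ← pow_add, mul_zero] at h
    rw [Finset.sum_eq_single j (fun i _ hi => ?_) (fun h => absurd (Finset.mem_univ j) h),
      show d - k + (j : ℕ) = d by omega] at h
    · exact (smul_eq_zero.1 h).resolve_right hd
    · rcases lt_or_gt_of_ne (show (i : ℕ) ≠ k from fun h => hi (Fin.ext (h.trans hj.symm))) with
        hik | hik
      · rw [ih i hik i rfl, zero_smul]
      · rw [show d - k + (i : ℕ) = (d + 1) + (d - k + i - (d + 1)) by omega, pow_add, hd1,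
          zero_mul, smul_zero]

/-- Solutions of `q ^ l + 1 = 2 ^ n`. -/
theorem eq_one_of_pow_succ_eq {q l n : ℕ} (hq3 : 3 ≤ q) (hqo : Odd q) (hn : 2 ≤ n)
    (hl : q ^ l + 1 = 2 ^ n) : l = 1 := by
  have h4 : 4 ∣ 2 ^ n := (show (4 : ℕ) = 2 ^ 2 from rfl) ▸ pow_dvd_pow 2 hn
  obtain ⟨t, ht⟩ := hqo
  rcases Nat.even_or_odd l with ⟨m, hm⟩ | hlo
  · exfalso
    obtain ⟨u, hu⟩ : Odd (q ^ m) := Odd.pow ⟨t, ht⟩
    obtain ⟨v, hv⟩ := h4
    rw [hm, pow_add, hu] at hl
    rw [hv] at hl
    have h9 : (2 * u + 1) * (2 * u + 1) = 4 * (u * u + u) + 1 := by ring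
    omega
  · have hdvd : q + 1 ∣ q ^ l + 1 := by simpa using hlo.nat_add_dvd_pow_add_pow q 1
    rw [hl] at hdvd
    obtain ⟨j, hj, hqj⟩ := (Nat.dvd_prime_pow Nat.prime_two).1 hdvd
    have hj1 : 1 ≤ j := by
      by_contra h0
      have : j = 0 := by omega
      subst this
      simp at hqj
      omega
    obtain ⟨j', rfl⟩ : ∃ j', j = j' + 1 := ⟨j - 1, by omega⟩
    by_contra hl1
    have hjn : j' + 1 < n := by
      rcases hj.lt_or_eq with h | h
      · exact h
      · exfalso
        rw [h, ← hl] at hqj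
        have h2 : q ^ 1 = q ^ l := by rw [pow_one]; omega
        exact hl1 (Nat.pow_right_injective (by omega) h2).symm
    -- modulo `2 ^ (j' + 2)`
    have hsq : q * q % 2 ^ (j' + 2) = 1 % 2 ^ (j' + 2) := by
      have h1 : q * q + 2 ^ (j' + 2) = 2 ^ (j' + 2) * 2 ^ j' + 1 := by
        have h2 : q + 1 = 2 * 2 ^ j' := by rw [hqj, pow_succ']
        have h3 : 2 ^ (j' + 2) = 4 * 2 ^ j' := by rw [pow_add]; ring
        rw [h3]
        nlinarith [h2]
      have := congrArg (· % 2 ^ (j' + 2)) h1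
      simpa [Nat.add_mul_mod_self_left, Nat.add_mod_right, Nat.mul_add_mod] using this
    obtain ⟨m, rfl⟩ := hlo
    have hpow : q ^ (2 * m + 1) % 2 ^ (j' + 2) = q % 2 ^ (j' + 2) := by
      rw [pow_succ, pow_mul, sq, Nat.mul_mod, Nat.pow_mod, hsq, ← Nat.pow_mod, one_pow,
        ← Nat.mul_mod, one_mul]
    have hlt : q < 2 ^ (j' + 2) := by
      have : 2 ^ (j' + 1) < 2 ^ (j' + 2) := Nat.pow_lt_pow_right one_lt_two (by omega)
      omega
    obtain ⟨i, hi⟩ : 2 ^ (j' + 2) ∣ 2 ^ n := pow_dvd_pow 2 (by omega)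
    have h5 := congrArg (· % 2 ^ (j' + 2)) hl
    simp only [hi, Nat.mul_mod_right] at h5
    rw [Nat.add_mod, hpow, ← Nat.add_mod] at h5
    have h6 : q + 1 < 2 ^ (j' + 2) := by
      have : 2 ^ (j' + 1) < 2 ^ (j' + 2) := Nat.pow_lt_pow_right one_lt_two (by omega)
      omega
    rw [Nat.mod_eq_of_lt h6] at h5
    omega

theorem pow_intertwine {ρ : MulAut E} {S : End Ω U}
    (hST : ∀ e, ∃ c : Ω, c ≠ 0 ∧ S * T e = c • (T (ρ e) * S)) (k : ℕ) (e : E) :
    ∃ c : Ω, c ≠ 0 ∧ S ^ k * T e = c • (T ((ρ ^ k) e) * S ^ k) := by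
  induction k with
  | zero => exact ⟨1, one_ne_zero, by simp⟩
  | succ k ih =>
    obtain ⟨c, hc, h⟩ := ih
    obtain ⟨c', hc', h'⟩ := hST ((ρ ^ k) e)
    refine ⟨c * c', mul_ne_zero hc hc', ?_⟩
    rw [pow_succ', mul_assoc, h, mul_smul_comm, ← mul_assoc, h', smul_mul_assoc, smul_smul,
      mul_assoc, ← pow_succ', pow_succ' ρ, MulAut.mul_apply]

/-- The deficient analogue of Hall and Higman's exceptional case, on one central character. -/
theorem plane [IsAlgClosed Ω] [CharP Ω 2] [FiniteDimensional Ω U] [Nontrivial U]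
    (D : ProjRep T ω) {q n : ℕ} [Fact q.Prime] (hq2 : q ≠ 2) (hexp : ∀ e : E, e ^ q = 1)
    (hn : 2 ≤ n) (S : End Ω U) (hS : S ^ 2 ^ n = 1)
    (hdef : ∑ i ∈ Finset.range (2 ^ n), S ^ i = 0) (ρ : MulAut E) (hρ : ρ ^ 2 ^ n = 1)
    (hST : ∀ e, ∃ c : Ω, c ≠ 0 ∧ S * T e = c • (T (ρ e) * S)) :
    (∀ e, (ρ ^ 2 ^ (n - 1)) e = e) ∨
      (q + 1 = 2 ^ n ∧ Nat.card {e : E // (ρ ^ 2 ^ (n - 1)) e = e⁻¹} = q ^ 2 ∧
        ∀ e, (ρ ^ 2 ^ (n - 1)) e = e → ρ e = e) := by
  classical
  have hqp : q.Prime := Fact.out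
  have hq3 : 3 ≤ q := by have := hqp.two_le; omega
  obtain ⟨k₂, hk₂⟩ := hqp.odd_of_ne_two hq2
  have hhalf : ∀ e : E, (e * e) ^ (k₂ + 1) = e := fun e => by
    rw [← pow_two, ← pow_mul, show 2 * (k₂ + 1) = q + 1 by omega, pow_succ, hexp, one_mul]
  set N := 2 ^ n with hN
  have hN4 : 4 ≤ N := by
    rw [hN, show (4 : ℕ) = 2 ^ 2 from rfl]; exact Nat.pow_le_pow_right two_pos hn
  set h := 2 ^ (n - 1) with hh
  have hhN : h + h = N := by rw [hh, hN, ← two_mul, ← pow_succ', Nat.sub_add_cancel (by omega)]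
  set β := ρ ^ h with hβ
  have hββ : ∀ e, β (β e) = e := fun e => by
    rw [← MulAut.mul_apply, hβ, ← pow_add, hhN, hρ]; rfl
  -- invariance of the form
  choose c hc0 hc using hST
  have hST : ∀ e, ∃ c : Ω, c ≠ 0 ∧ S * T e = c • (T (ρ e) * S) := fun e => ⟨c e, hc0 e, hc e⟩
  set S' := S ^ (N - 1) with hS'
  have hSS' : S * S' = 1 := by rw [hS', ← pow_succ', Nat.sub_add_cancel (by omega), hS]
  have hωρ : ∀ f e, ω (ρ f) (ρ e) = ω f e := by
    intro f e
    have h1 : S * (T f * T e) = ω f e • (S * (T e * T f)) := by rw [D.swap, mul_smul_comm]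
    have hmove : ∀ a b, S * (T a * T b) = (c a * c b) • (T (ρ a) * T (ρ b) * S) := fun a b => by
      rw [← mul_assoc, hc, smul_mul_assoc, mul_assoc, hc, mul_smul_comm, smul_smul, ← mul_assoc]
    rw [hmove, hmove, D.swap (ρ f) (ρ e), smul_mul_assoc, smul_smul, smul_smul,
      mul_comm (c e) (c f), mul_comm (c f * c e) (ω (ρ f) (ρ e))] at h1
    refine mul_right_cancel₀ (mul_ne_zero (hc0 f) (hc0 e)) (smul_left_injective Ω ?_ h1)
    intro h0
    have h2 := congrArg (· * (S' * (D.inv (ρ f) * D.inv (ρ e)))) h0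
    simp only [zero_mul, ← mul_assoc] at h2
    rw [mul_assoc (T (ρ e) * T (ρ f)) S S', hSS', mul_one, mul_assoc (T (ρ e)) (T (ρ f)),
      D.mul_inv_self, mul_one, D.mul_inv_self] at h2
    exact one_ne_zero h2
  have hωβ : ∀ f e, ω (β f) (β e) = ω f e := by
    have : ∀ k f e, ω ((ρ ^ k) f) ((ρ ^ k) e) = ω f e := by
      intro k
      induction k with
      | zero => intro f e; rfl
      | succ k ih => intro f e; rw [pow_succ', MulAut.mul_apply, MulAut.mul_apply, hωρ, ih]
    exact this h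
  have hone : ∀ e, ω 1 e = 1 ∧ ω e 1 = 1 := fun e => by
    constructor
    · have h1 := D.form_mul_left 1 1 e
      rw [mul_one] at h1
      exact (mul_eq_left₀ (D.form_ne_zero 1 e)).1 h1.symm
    · have h1 := D.form_mul_right e 1 1
      rw [mul_one] at h1
      exact (mul_eq_left₀ (D.form_ne_zero e 1)).1 h1.symm
  have hsq1 : ∀ w : Ω, w * w = 1 → w = 1 := fun w hw => by
    have : (w - 1) ^ 2 = 0 := by rw [sub_pow_char, one_pow, pow_two, hw, sub_self]
    exact sub_eq_zero.1 (pow_eq_zero_iff two_ne_zero |>.1 this)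
  let Em : Subgroup E :=
    { carrier := {e | β e = e⁻¹}
      one_mem' := by simp
      mul_mem' := fun {a b} ha hb => by
        simp only [Set.mem_ofPred_eq] at ha hb ⊢
        rw [map_mul, ha, hb, mul_inv]
      inv_mem' := fun {a} ha => by
        simp only [Set.mem_ofPred_eq] at ha ⊢
        rw [map_inv, ha] }
  have hEm : ∀ e, e ∈ Em ↔ β e = e⁻¹ := fun _ => Iff.rfl
  have horth : ∀ f ∈ Em, ∀ e, β e = e → ω f e = 1 ∧ ω e f = 1 := by
    intro f hf e he
    constructor
    · apply hsq1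
      have h1 := hωβ f e
      rw [(hEm f).1 hf, he] at h1
      conv_lhs => arg 1; rw [← h1]
      rw [← D.form_mul_left, inv_mul_cancel, (hone e).1]
    · apply hsq1
      have h1 := hωβ e f
      rw [(hEm f).1 hf, he] at h1
      conv_lhs => arg 1; rw [← h1]
      rw [← D.form_mul_right, inv_mul_cancel, (hone e).2]
  have hdec : ∀ x, ∃ a, β a = a ∧ ∃ b ∈ Em, x = a * b := by
    intro x
    refine ⟨(x * β x) ^ (k₂ + 1), by rw [map_pow, map_mul, hββ, mul_comm],
      (x * (β x)⁻¹) ^ (k₂ + 1), ?_, ?_⟩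
    · rw [hEm, map_pow, map_mul, map_inv, hββ, ← inv_pow]
      congr 1
      rw [mul_inv, inv_inv, mul_comm]
    · rw [← mul_pow, show x * β x * (x * (β x)⁻¹) = x * x by
        rw [mul_mul_mul_comm, mul_inv_cancel, mul_one], hhalf]
  -- the representation of the inverted group
  let T' : Em → End Ω U := fun e => T e
  let ω' : Em → Em → Ω := fun f e => ω f e
  have D' : ProjRep T' ω' :=
    { one := D.one
      mul := fun e f => D.mul e f
      swap := fun f e => D.swap f e
      nondeg := fun f hf => by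
        obtain ⟨x, hx⟩ := D.nondeg f (fun h => hf (Subtype.ext h))
        obtain ⟨a, ha, b, hb, rfl⟩ := hdec x
        refine ⟨⟨b, hb⟩, fun h => hx ?_⟩
        rw [D.form_mul_left, (horth f f.2 a ha).2, one_mul]
        exact h }
  have hρEm : ∀ e ∈ Em, ρ e ∈ Em := fun e he => by
    rw [hEm] at he ⊢
    rw [hβ, ← MulAut.mul_apply, ← pow_succ, pow_succ', MulAut.mul_apply, ← hβ, he, map_inv]
  have hρk : ∀ k, ∀ e ∈ Em, (ρ ^ k) e ∈ Em := by
    intro k
    induction k with
    | zero => intro e he; exact he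
    | succ k ih => intro e he; rw [pow_succ', MulAut.mul_apply]; exact hρEm _ (ih e he)
  let ρ' : MulAut Em :=
    { toFun := fun e => ⟨ρ e, hρEm e e.2⟩
      invFun := fun e => ⟨(ρ ^ (N - 1)) e, hρk _ e e.2⟩
      left_inv := fun e => Subtype.ext (by
        show (ρ ^ (N - 1)) (ρ e) = e
        rw [← MulAut.mul_apply, ← pow_succ, Nat.sub_add_cancel (by omega), hρ]; rfl)
      right_inv := fun e => Subtype.ext (by
        show ρ ((ρ ^ (N - 1)) e) = e
        rw [← MulAut.mul_apply, ← pow_succ', Nat.sub_add_cancel (by omega), hρ]; rfl)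
      map_mul' := fun a b => Subtype.ext (map_mul ρ (a : E) b) }
  have hsqEm : ∀ e ∈ Em, β e = e → e = 1 := fun e he he' => by
    rw [hEm] at he
    rw [← hhalf e]
    nth_rewrite 2 [← he']
    rw [he, mul_inv_cancel, one_pow]
  obtain ⟨Y, hYA, hY0, hYS, hYT⟩ := exists_intertwiner D' (N := N) (by omega) S hS ρ'
    (fun e => hST e) (fun e he => Subtype.ext (hsqEm e e.2 (by
      have he' : ρ (e : E) = e := congrArg Subtype.val he
      rw [hβ]
      have : ∀ k, (ρ ^ k) (e : E) = e := by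
        intro k
        induction k with
        | zero => rfl
        | succ k ih => rw [pow_succ', MulAut.mul_apply, ih, he']
      exact this h)))
  obtain ⟨hA1, hAT, hAmul⟩ := mem_span D'
  have hApow : ∀ {Z : End Ω U}, Z ∈ LinearMap.range (spanMap T') → ∀ i,
      Z ^ i ∈ LinearMap.range (spanMap T') := by
    intro Z hZ i
    induction i with
    | zero => simpa using hA1
    | succ i ih => rw [pow_succ]; exact hAmul _ _ ih hZ
  -- `Y` is invertible
  have hYker : LinearMap.ker Y = ⊥ := by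
    by_contra hne
    refine hY0 (eq_zero_of_vanish D' _ hne (fun e u hu => ?_) hYA fun u hu => hu)
    rw [LinearMap.mem_ker] at hu ⊢
    have h1 := LinearMap.congr_fun (hYT e) (S' u)
    simp only [Module.End.mul_apply] at h1
    have h2 : S (S' u) = u := LinearMap.congr_fun hSS' u
    have h3 : Y (S' u) = S' (Y u) :=
      LinearMap.congr_fun ((show Commute S Y from hYS).pow_left (N - 1)).eq.symm u
    rw [h2, h3, hu, map_zero, map_zero, map_zero] at h1
    exact h1.symm
  obtain ⟨Yu, hYu⟩ : IsUnit Y := (Module.End.isUnit_iff Y).2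
    ⟨LinearMap.ker_eq_bot.1 hYker,
      LinearMap.injective_iff_surjective.1 (LinearMap.ker_eq_bot.1 hYker)⟩
  set Yi : End Ω U := ↑Yu⁻¹ with hYi
  have hYiY : Yi * Y = 1 := by rw [hYi, ← hYu]; exact Yu.inv_mul
  have hYYi : Y * Yi = 1 := by rw [hYi, ← hYu]; exact Yu.mul_inv
  have hYiS : Commute S Yi := by
    rw [hYi]; exact Commute.units_inv_right (by rw [hYu]; exact hYS)
  have hcomm : ∀ f : Em, Commute (Yi * S) (T f) := fun f => by
    show Yi * S * T f = T f * (Yi * S)
    calc Yi * S * T f = Yi * (S * T f * Y) * Yi := by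
          simp only [mul_assoc, hYYi, mul_one]
      _ = T f * (S * Yi) := by
          rw [hYT f]; simp only [← mul_assoc, hYiY, one_mul]
          rfl
      _ = _ := by rw [hYiS.eq]
  have hYNc : ∀ f : Em, Commute (Y ^ N) (T f) := fun f => by
    have h1 := (hcomm f).pow_left N
    rw [hYiS.symm.mul_pow, hS, mul_one, hYi, ← Units.val_pow_eq_pow_val, inv_pow] at h1
    have h2 := h1.units_inv_left
    rwa [inv_inv, Units.val_pow_eq_pow_val, hYu] at h2
  -- an irreducible subspace
  obtain ⟨M, ⟨hMne, hMinv⟩, hMmin⟩ : ∃ M : Submodule Ω U,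
      (M ≠ ⊥ ∧ ∀ e, ∀ u ∈ M, T' e u ∈ M) ∧
      ∀ X : Submodule Ω U, (X ≠ ⊥ ∧ ∀ e, ∀ u ∈ X, T' e u ∈ X) → finrank Ω M ≤ finrank Ω X := by
    have hne : {X : Submodule Ω U | X ≠ ⊥ ∧ ∀ e, ∀ u ∈ X, T' e u ∈ X}.Nonempty :=
      ⟨⊤, top_ne_bot, fun _ u _ => Submodule.mem_top⟩
    obtain ⟨M, hM, hmin⟩ := (InvImage.wf (fun X : Submodule Ω U => finrank Ω X) wellFounded_lt).has_min
      _ hne
    exact ⟨M, hM, fun X hX => not_lt.1 (hmin X hX)⟩
  haveI : Nontrivial M := Submodule.nontrivial_iff_ne_bot.2 hMne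
  set TM : Em → End Ω M := fun e => (T' e).restrict (hMinv e) with hTM
  have DM : ProjRep TM ω' := D'.restrict M hMinv
  have hirr : ∀ X : Submodule Ω M, (∀ e, ∀ u ∈ X, TM e u ∈ X) → X = ⊥ ∨ X = ⊤ := by
    intro X hX
    by_cases hb : X = ⊥
    · exact Or.inl hb
    refine Or.inr (Submodule.eq_top_of_finrank_eq (le_antisymm (Submodule.finrank_le X) ?_))
    rw [← Submodule.finrank_map_subtype_eq M X]
    refine hMmin _ ⟨fun h => hb (eq_bot_iff.2 fun x hx => by
      have h1 := Submodule.mem_map_of_mem (f := M.subtype) hx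
      rw [h, Submodule.mem_bot] at h1
      exact (Submodule.mem_bot _).2 (Subtype.ext h1)),
      fun e u hu => ?_⟩
    obtain ⟨x, hx, rfl⟩ := Submodule.mem_map.1 hu
    exact Submodule.mem_map.2 ⟨_, hX e x hx, rfl⟩
  have hMA : ∀ Z ∈ LinearMap.range (spanMap T'), ∀ u ∈ M, Z u ∈ M := by
    rintro _ ⟨b, rfl⟩ u hu
    rw [spanMap_apply, LinearMap.sum_apply]
    exact M.sum_mem fun e _ => M.smul_mem _ (hMinv e u hu)
  -- normalisation
  obtain ⟨c₀, hc₀⟩ := exists_scalar TM hirr ((Y ^ N).restrict (hMA _ (hApow hYA N)))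
    (fun e => LinearMap.ext fun u => Subtype.ext (LinearMap.congr_fun (hYNc e).eq (u : U)))
  have hYN : Y ^ N = c₀ • 1 := by
    refine sub_eq_zero.1 (eq_zero_of_vanish D' M hMne hMinv
      (Submodule.sub_mem _ (hApow hYA N) (Submodule.smul_mem _ _ hA1)) fun u hu => ?_)
    have := congrArg Subtype.val (LinearMap.congr_fun hc₀ ⟨u, hu⟩)
    simpa [sub_eq_zero] using this
  have hc₀0 : c₀ ≠ 0 := fun h => by
    rw [h, zero_smul] at hYN
    have h1 : (Y * Yi) ^ N = 0 := by
      rw [(show Commute Y Yi from hYYi.trans hYiY.symm).mul_pow, hYN, zero_mul]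
    rw [hYYi, one_pow] at h1
    exact one_ne_zero h1
  obtain ⟨r, hr⟩ := IsAlgClosed.exists_pow_nat_eq c₀ (show 0 < N by omega)
  have hr0 : r ≠ 0 := fun h => hc₀0 (by rw [← hr, h, zero_pow (by omega)])
  set y := r⁻¹ • Y with hy
  have hyA : y ∈ LinearMap.range (spanMap T') := Submodule.smul_mem _ _ hYA
  have hyN : y ^ N = 1 := by
    rw [hy, smul_pow, hYN, smul_smul, inv_pow, hr, inv_mul_cancel₀ hc₀0, one_smul]
  set x := r • (Yi * S) with hx
  have hxy : x * y = S := by
    rw [hx, hy, smul_mul_smul_comm, mul_inv_cancel₀ hr0, one_smul, mul_assoc, hYS, ← mul_assoc,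
      hYiY, one_mul]
  have hxyc : Commute x y := by
    rw [hx, hy]
    refine ((?_ : Commute (Yi * S) Y).smul_left r).smul_right r⁻¹
    exact Commute.mul_left (hYiY.trans hYYi.symm) hYS
  have hxc : ∀ f : Em, Commute x (T f) := fun f => (hcomm f).smul_left r
  have hxA : ∀ i, ∀ f : Em, Commute (x ^ i) (T f) := fun i f => (hxc f).pow_left i
  have hxN : x ^ N = 1 := by
    have h1 := congrArg (· ^ N) hxy
    simpa [hxyc.mul_pow, hyN, hS] using h1
  haveI : CharP (End Ω U) 2 :=
    charP_of_injective_algebraMap (algebraMap Ω (End Ω U)).injective 2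
  set s := y - 1 with hs
  have hsA : s ∈ LinearMap.range (spanMap T') := Submodule.sub_mem _ hyA hA1
  have hsN : s ^ N = 0 := by
    rw [hs, hN, sub_pow_char_pow_of_commute 2 n (Commute.one_right y), one_pow, ← hN, hyN, sub_self]
  -- expansion of the deficiency
  set P := fun j => ∑ i ∈ Finset.range N, (i.choose j : Ω) • x ^ i with hP
  have hPc : ∀ j, ∀ f : Em, P j * T f = T f * P j := fun j f =>
    (Commute.sum_left _ _ _ fun i _ => (hxA i f).smul_left _).eq
  have hexpand : ∑ j ∈ Finset.range N, P j * s ^ j = 0 := by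
    rw [← hdef]
    simp only [hP, Finset.sum_mul]
    rw [Finset.sum_comm]
    refine Finset.sum_congr rfl fun i hi => ?_
    rw [← hxy, hxyc.mul_pow, show y = s + 1 by rw [hs, sub_add_cancel],
      (Commute.one_right s).add_pow, Finset.mul_sum]
    have hiN := Finset.mem_range.1 hi
    rw [← Finset.sum_subset (s₁ := Finset.range (i + 1))
      (by intro a ha; rw [Finset.mem_range] at ha ⊢; omega)
      (fun a _ ha => by
        rw [Finset.mem_range] at ha
        rw [Nat.choose_eq_zero_of_lt (by omega), Nat.cast_zero, zero_smul, zero_mul])]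
    refine Finset.sum_congr rfl fun j _ => ?_
    rw [one_pow, mul_one, smul_mul_assoc, ← (Nat.cast_commute _ _).eq, ← nsmul_eq_mul,
      mul_smul_comm, Nat.cast_smul_eq_nsmul]
  have hcardq : IsPGroup q Em := fun e => ⟨1, Subtype.ext (by simpa using hexp e)⟩
  obtain ⟨m, hm⟩ := IsPGroup.iff_card.1 hcardq
  rw [Nat.card_eq_fintype_card] at hm
  have hEΩ : (Fintype.card Em : Ω) ≠ 0 := by
    rw [hm, Nat.cast_pow]
    refine pow_ne_zero _ fun h => ?_
    exact hq2 ((Nat.prime_dvd_prime_iff_eq Nat.prime_two hqp).1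
      ((CharP.cast_eq_zero_iff Ω 2 q).1 h)).symm
  have hxu : ∀ i, x ^ i ≠ 0 := fun i h0 => by
    have h1 : (x ^ i) ^ N = 0 := by rw [h0, zero_pow (by omega)]
    rw [← pow_mul, mul_comm, pow_mul, hxN, one_pow] at h1
    exact one_ne_zero h1
  have hcoef : ∀ d, s ^ d ≠ 0 → s ^ (d + 1) = 0 → d < N → P d = 0 := by
    intro d hd hd1 hdN
    refine coeff_eq_zero D' hEΩ (fun j : Fin (d + 1) => s ^ (j : ℕ)) (fun j => hApow hsA _)
      (linearIndependent_pow s hd hd1) (fun j => P j) (fun j f => hPc j f) ?_ (Fin.last d)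
    rw [Fin.sum_univ_eq_sum_range (fun j => P j * s ^ j)]
    refine (Finset.sum_subset ?_ fun j hj hj' => ?_).trans hexpand
    · intro a ha; rw [Finset.mem_range] at ha ⊢; omega
    · rw [Finset.mem_range] at hj'
      rw [show j = (d + 1) + (j - (d + 1)) by omega, pow_add, hd1, zero_mul, mul_zero]
  have hPtop : P (N - 1) = x ^ (N - 1) := by
    simp only [hP]
    rw [Finset.sum_eq_single (N - 1)]
    · simp
    · intro i hi hne
      rw [Finset.mem_range] at hi
      rw [Nat.choose_eq_zero_of_lt (by omega)]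
      simp
    · intro h1
      exact absurd (Finset.mem_range.2 (by omega)) h1
  have hs1 : s ^ (N - 1) = 0 := by
    by_contra hne
    exact hxu (N - 1) (hPtop ▸ hcoef (N - 1) hne (by rw [Nat.sub_add_cancel (by omega)]; exact hsN)
      (by omega))
  -- the irreducible piece
  set sM : End Ω M := s.restrict (hMA s hsA) with hsM
  have hsMpow : ∀ (i : ℕ) (u : M), ((sM ^ i) u : U) = (s ^ i) (u : U) := by
    intro i
    induction i with
    | zero => intro u; rfl
    | succ i ih =>
      intro u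
      rw [pow_succ', Module.End.mul_apply, pow_succ', Module.End.mul_apply, ← ih]
      rfl
  have hsM1 : sM ^ (2 * h - 1) = 0 := LinearMap.ext fun u => Subtype.ext (by
    rw [hsMpow, show 2 * h - 1 = N - 1 by omega, hs1]; rfl)
  have hcardM : Fintype.card Em = finrank Ω M * finrank Ω M := by
    let Φ : (Em → Ω) ≃ₗ[Ω] End Ω M := LinearEquiv.ofBijective (spanMap TM)
      ⟨(injective_iff_map_eq_zero (spanMap TM)).2 fun a ha => DM.independent a ha,
        fun X => DM.span_eq_top hEΩ hirr X⟩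
    rw [← finrank_linearMap Ω Ω M M, ← Φ.finrank_eq, finrank_pi]
  have hoddM : Odd (finrank Ω M) := by
    have h1 : Odd (finrank Ω M * finrank Ω M) := by
      rw [← hcardM, hm]; exact (hqp.odd_of_ne_two hq2).pow
    exact (Nat.odd_mul.1 h1).1
  set Z := y ^ h with hZ
  have hZs : Z = 1 + s ^ h := by
    rw [hZ, show y = 1 + s by rw [hs]; abel, hh,
      add_pow_char_pow_of_commute 2 (n - 1) (Commute.one_left s), one_pow]
  have hZZ : Z * Z = 1 := by rw [hZ, ← pow_add, hhN, hyN]
  have hcodim : ∀ v₁ ∈ LinearMap.ker (sM ^ h), ∀ v₂ ∈ LinearMap.ker (sM ^ h),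
      v₂ ∉ LinearMap.range (sM ^ h) →
        v₁ ∈ LinearMap.range (sM ^ h) ⊔ Submodule.span Ω {v₂} := by
    intro v₁ hv₁ v₂ hv₂ hv₂I
    by_contra hv₁I
    obtain ⟨φ₁, hφ₁v, hφ₁⟩ := Submodule.exists_dual_map_eq_bot_of_notMem hv₁I inferInstance
    obtain ⟨φ₂, hφ₂v, hφ₂⟩ := Submodule.exists_dual_map_eq_bot_of_notMem hv₂I inferInstance
    have hker : ∀ (φ : Module.Dual Ω M) (p : Submodule Ω M), p.map φ = ⊥ → ∀ w ∈ p, φ w = 0 :=
      fun φ p hp w hw => by
        have h1 := Submodule.mem_map_of_mem (f := φ) hw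
        rwa [hp, Submodule.mem_bot] at h1
    have hφ₁I : ∀ w ∈ LinearMap.range (sM ^ h), φ₁ w = 0 := fun w hw =>
      hker φ₁ _ hφ₁ w (Submodule.mem_sup_left hw)
    have hφ₁2 : φ₁ v₂ = 0 :=
      hker φ₁ _ hφ₁ v₂ (Submodule.mem_sup_right (Submodule.mem_span_singleton_self v₂))
    have hφ₂I : ∀ w ∈ LinearMap.range (sM ^ h), φ₂ w = 0 := hker φ₂ _ hφ₂
    set ZM : End Ω M := Z.restrict (hMA Z (hApow hyA h)) with hZM
    have hZMs : ∀ w : M, ZM w = w + (sM ^ h) w := fun w => Subtype.ext (by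
      show Z (w : U) = (w : U) + ((sM ^ h) w : U)
      rw [hsMpow, hZs]; rfl)
    have hZMK : ∀ w ∈ LinearMap.ker (sM ^ h), ZM w = w := fun w hw => by
      rw [hZMs, LinearMap.mem_ker.1 hw, add_zero]
    have hZMZM : ∀ w, ZM (ZM w) = w := fun w => Subtype.ext (LinearMap.congr_fun hZZ (w : U))
    have hZMφ : ∀ (φ : Module.Dual Ω M), (∀ w ∈ LinearMap.range (sM ^ h), φ w = 0) →
        ∀ w, φ (ZM w) = φ w := fun φ hφ w => by
      rw [hZMs, map_add, hφ _ (LinearMap.mem_range_self _ w), add_zero]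
    have hconj : ∀ e : Em, ∃ d : Ω, ∀ w, ZM (TM e (ZM w)) = d • TM e⁻¹ w := by
      intro e
      obtain ⟨d, -, hd⟩ := pow_intertwine hST h (e : E)
      refine ⟨d, fun w => Subtype.ext ?_⟩
      have h1 : S ^ h * T e * S ^ h = Z * T e * Z := by
        rw [← hxy, hxyc.mul_pow, ← hZ]
        have c1 : Commute (x ^ h) (T e) := hxA h e
        have c2 : Commute (x ^ h) Z := hxyc.pow_pow h h
        calc x ^ h * Z * T e * (x ^ h * Z) = Z * (x ^ h * T e * x ^ h) * Z := by
              nth_rewrite 1 [c2.eq]; simp only [mul_assoc]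
          _ = Z * (T e * (x ^ h * x ^ h)) * Z := by rw [c1.eq, mul_assoc (T e)]
          _ = Z * T e * Z := by rw [← pow_add, hhN, hxN, mul_one]
      rw [hd, smul_mul_assoc, mul_assoc, ← pow_add, hhN, hS, mul_one,
        show (ρ ^ h) (e : E) = ((e⁻¹ : Em) : E) from (hEm e).1 e.2] at h1
      exact (LinearMap.congr_fun h1 (w : U)).symm
    choose d hd using hconj
    obtain ⟨a, ha⟩ := DM.span_eq_top hEΩ hirr (φ₁.smulRight v₁)
    have hainv : ∀ e, a e * d e = a e⁻¹ := by
      intro e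
      have h1 : ∑ e, (a e⁻¹ * d e⁻¹ - a e) • TM e = 0 := by
        rw [Finset.sum_congr rfl fun e _ => sub_smul (a e⁻¹ * d e⁻¹) (a e) (TM e), Finset.sum_sub_distrib, ha]
        refine sub_eq_zero.2 (LinearMap.ext fun w => ?_)
        have h2 : φ₁.smulRight v₁ w = ZM (φ₁.smulRight v₁ (ZM w)) := by
          simp only [LinearMap.smulRight_apply, map_smul, hZMφ φ₁ hφ₁I, hZMK v₁ hv₁]
        rw [h2, ← ha]
        simp only [LinearMap.sum_apply, LinearMap.smul_apply, map_sum, map_smul, hd, smul_smul]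
        exact Fintype.sum_equiv (Equiv.inv Em) _ _ fun e => by simp
      have h2 := congrFun (DM.independent _ h1) e⁻¹
      simp only [inv_inv, Pi.zero_apply, sub_eq_zero] at h2
      exact h2
    have hval : ∀ (φ : Module.Dual Ω M), (∀ w ∈ LinearMap.range (sM ^ h), φ w = 0) →
        ∀ v ∈ LinearMap.ker (sM ^ h), φ (φ₁.smulRight v₁ v) = a 1 * φ v := by
      intro φ hφ v hv
      rw [← ha, LinearMap.sum_apply, map_sum, ← Finset.add_sum_erase Finset.univ _
        (Finset.mem_univ (1 : Em)), LinearMap.smul_apply, map_smul, smul_eq_mul, DM.one,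
        Module.End.one_apply, add_eq_left]
      refine Finset.sum_involution (fun e _ => e⁻¹) (fun e _ => ?_) (fun e he _ hee => ?_)
        (fun e he => ?_) (fun e _ => inv_inv e)
      · rw [LinearMap.smul_apply, LinearMap.smul_apply, map_smul, map_smul, smul_eq_mul,
          smul_eq_mul]
        have h3 : φ (TM e v) = d e * φ (TM e⁻¹ v) := by
          have h4 := congrArg φ (hd e v)
          rwa [hZMK v hv, hZMφ φ hφ, map_smul, smul_eq_mul] at h4
        rw [h3, ← hainv e, ← mul_assoc, CharTwo.add_self_eq_zero]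
      · have hne : e ≠ 1 := by simpa using he
        refine hne (Subtype.ext (hsqEm e e.2 ?_))
        rw [(hEm e).1 e.2]
        exact congrArg Subtype.val hee
      · simpa using he
    have h1 := hval φ₁ hφ₁I v₁ hv₁
    have h2 := hval φ₂ hφ₂I v₂ hv₂
    simp only [LinearMap.smulRight_apply, map_smul, smul_eq_mul, hφ₁2, zero_mul] at h1 h2
    rcases mul_eq_zero.1 h2.symm with h3 | h3
    · rw [h3, zero_mul] at h1
      exact (mul_ne_zero hφ₁v hφ₁v) h1
    · exact hφ₂v h3
  rcases finrank_eq_one_or sM (Nat.one_le_two_pow) hsM1 hoddM hcodim with hD | ⟨hD, hD'⟩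
  · left
    intro e
    obtain ⟨a, ha, b, hb, rfl⟩ := hdec e
    have hcard1 : Fintype.card Em = 1 := by rw [hcardM, hD]
    have hb1 : (⟨b, hb⟩ : Em) = 1 := Fintype.card_le_one_iff.1 hcard1.le _ _
    rw [show b = 1 from congrArg Subtype.val hb1, mul_one]
    exact ha
  right
  rw [show 2 * h - 1 = N - 1 by omega] at hD
  rw [show 2 * h - 2 = N - 2 by omega] at hD'
  have hq1 : q + 1 = N := by
    have h1 : N - 1 ∣ q ^ m := ⟨N - 1, by rw [← hm, hcardM, hD]⟩
    obtain ⟨l, -, hl⟩ := (Nat.dvd_prime_pow hqp).1 h1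
    have hl1 := eq_one_of_pow_succ_eq (l := l) hq3 (hqp.odd_of_ne_two hq2) hn (by omega)
    subst hl1
    rw [pow_one] at hl
    omega
  refine ⟨hq1, ?_, ?_⟩
  · rw [show Nat.card {e : E // β e = e⁻¹} = Nat.card Em from rfl, Nat.card_eq_fintype_card,
      hcardM, hD, ← hq1, Nat.add_sub_cancel, pow_two]
  have hs2 : s ^ (N - 2) ≠ 0 := fun h0 => hD' (LinearMap.ext fun u => Subtype.ext (by
    rw [hsMpow, h0]; rfl))
  have hP2 := hcoef (N - 2) hs2 (by rw [show N - 2 + 1 = N - 1 by omega]; exact hs1) (by omega)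
  have hx1 : x = 1 := by
    simp only [hP] at hP2
    rw [show N = N - 2 + 1 + 1 by omega, Finset.sum_range_succ, Finset.sum_range_succ,
      Finset.sum_eq_zero (fun i hi => by
        rw [Finset.mem_range] at hi
        rw [Nat.choose_eq_zero_of_lt (by omega)]
        simp)] at hP2
    rw [show N - 2 + 1 + 1 - 2 = N - 2 by omega, Nat.choose_self, Nat.choose_succ_self_right,
      Nat.cast_one, one_smul, zero_add] at hP2
    have hodd' : ((N - 2 + 1 : ℕ) : Ω) = 1 := by
      have h2 : (2 : Ω) = 0 := CharTwo.two_eq_zero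
      rw [show N - 2 + 1 = 2 * (h - 1) + 1 by omega]
      push_cast [h2]
      ring
    rw [hodd', one_smul, pow_succ] at hP2
    have h3 := congrArg (x ^ 2 * ·) hP2
    simp only [mul_add, mul_zero, ← mul_assoc, ← pow_add,
      show 2 + (N - 2) = N by omega, hxN, one_mul] at h3
    rw [← CharTwo.add_eq_zero.1 h3]
  intro e he
  have hSy : S = y := by rw [← hxy, hx1, one_mul]
  have hcy : Commute (T e) S := by
    obtain ⟨b, hb⟩ := hyA
    rw [hSy, ← hb, spanMap_apply]
    refine Commute.sum_right _ _ _ fun f _ => Commute.smul_right ?_ _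
    show T e * T f = T f * T e
    have h1 := D.swap e (f : E)
    rwa [(horth f f.2 e he).2, one_smul] at h1
  have h1 : T e = c e • T (ρ e) := by
    have h2 := (hc e).symm.trans hcy.eq.symm
    have h3 := congrArg (· * S') h2
    simp only [smul_mul_assoc, mul_assoc, hSS', mul_one] at h3
    exact h3.symm
  by_contra hne
  have h2 := D.independent (fun g => (if g = e then 1 else 0) - if g = ρ e then c e else 0) (by
    simp only [sub_smul, ite_smul, zero_smul, one_smul, Finset.sum_sub_distrib,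
      Finset.sum_ite_eq', Finset.mem_univ, if_true]
    exact sub_eq_zero.2 h1)
  have h3 := congrFun h2 e
  simp [Ne.symm hne] at h3

end CfsgLib.PLocal.Gross
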