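import Mathlib

/-!
An element `u` of order `2 ^ n` of a linear group in odd characteristic whose involution
`u ^ 2 ^ (n - 1)` has a `(-1)`-space of dimension at most two, `u` fixing its fixed space and
having determinant one on the `(-1)`-space: the conjugation action of `u` on operators.
-/

set_option autoImplicit false
set_option linter.style.haveILetI false
set_option linter.unusedSectionVars false

namespace CfsgLib.PLocal.Gross

open Module

variable {q : ℕ} [Fact q.Prime] {M : Type*} [AddCommGroup M] [Module (ZMod q) M]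
variable {G : Type*} [Group G]

/-- `u` is, in the representation `σ`, a quaternionic reflection of order `2 ^ n`. -/
structure PlaneTop (σ : G →* Module.End (ZMod q) M) (u : G) (n : ℕ) (s : ZMod q) : Prop where
  two_le : 2 ≤ n
  pow_eq : u ^ 2 ^ n = 1
  three : n = 2 → q = 3
  fix : ∀ v, σ (u ^ 2 ^ (n - 1)) v = v → σ u v = v
  quad : ∀ v, σ (u ^ 2 ^ (n - 1)) v = -v → σ u (σ u v) = s • σ u v - v
  dim : finrank (ZMod q) (LinearMap.ker (σ (u ^ 2 ^ (n - 1)) + 1)) ≤ 2

theorem mul_self_ne_neg_one : ∀ a : ZMod 3, a * a ≠ -1 := by decide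

namespace PlaneTop

variable {σ : G →* Module.End (ZMod q) M} {u : G} {n : ℕ} {s : ZMod q}

theorem two_ne_zero' (hq2 : q ≠ 2) : (2 : ZMod q) ≠ 0 := fun h => by
  have h1 : ((2 : ℕ) : ZMod q) = 0 := by simpa using h
  rw [CharP.cast_eq_zero_iff (ZMod q) q 2] at h1
  exact hq2 ((Nat.prime_dvd_prime_iff_eq Fact.out Nat.prime_two).1 h1)

theorem even_half (H : PlaneTop σ u n s) : 2 ^ (n - 1) = 2 * 2 ^ (n - 2) := by
  have := H.two_le
  rw [← pow_succ']
  congr 1
  omega

/-- The involution. -/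
theorem top_sq (H : PlaneTop σ u n s) (v : M) :
    σ (u ^ 2 ^ (n - 1)) (σ (u ^ 2 ^ (n - 1)) v) = v := by
  have := H.two_le
  rw [← Module.End.mul_apply, ← map_mul, ← pow_add, ← two_mul, ← pow_succ',
    Nat.sub_add_cancel (by omega), H.pow_eq, map_one, Module.End.one_apply]

theorem decompose (H : PlaneTop σ u n s) (hq2 : q ≠ 2) (v : M) :
    ∃ c p : M, v = c + p ∧ σ (u ^ 2 ^ (n - 1)) c = c ∧ σ (u ^ 2 ^ (n - 1)) p = -p := by
  refine ⟨(2 : ZMod q)⁻¹ • (v + σ (u ^ 2 ^ (n - 1)) v), (2 : ZMod q)⁻¹ • (v - σ (u ^ 2 ^ (n - 1)) v),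
    ?_, ?_, ?_⟩
  · rw [← smul_add, show v + σ (u ^ 2 ^ (n - 1)) v + (v - σ (u ^ 2 ^ (n - 1)) v) = (2 : ZMod q) • v by
      rw [two_smul]; abel, smul_smul, inv_mul_cancel₀ (two_ne_zero' hq2), one_smul]
  · rw [map_smul, map_add, H.top_sq, add_comm]
  · rw [map_smul, map_sub, H.top_sq, ← smul_neg, neg_sub]

theorem cubic (H : PlaneTop σ u n s) (hq2 : q ≠ 2) (v : M) :
    σ u (σ u (σ u v)) = (s + 1) • σ u (σ u v) - (s + 1) • σ u v + v := by
  obtain ⟨c, p, rfl, hc, hp⟩ := H.decompose hq2 v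
  simp only [map_add, H.fix c hc, H.quad p hp, map_sub, map_smul]
  module

theorem eq_zero_of_neg (H : PlaneTop σ u n s) (hq2 : q ≠ 2) {v : M} (hv : σ u v = -v) : v = 0 := by
  have h2 : ∀ k, σ (u ^ (2 * k)) v = v := by
    intro k
    induction k with
    | zero => simp
    | succ k ih =>
      rw [mul_add, mul_one, pow_add, map_mul, Module.End.mul_apply,
        show σ (u ^ 2) v = v by rw [pow_two, map_mul, Module.End.mul_apply, hv, map_neg, hv, neg_neg],
        ih]
  have h1 := H.fix v (by rw [H.even_half]; exact h2 _)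
  rw [hv] at h1
  have h3 : (2 : ZMod q) • v = 0 := by rw [two_smul]; nth_rewrite 1 [← h1]; exact neg_add_cancel v
  exact (smul_eq_zero.1 h3).resolve_left (two_ne_zero' hq2)

/-- An operator anticommuting with `u` kills the fixed space. -/
theorem anti_fixed (H : PlaneTop σ u n s) (hq2 : q ≠ 2) {X : Module.End (ZMod q) M}
    (hX : σ u * X = -(X * σ u)) {c : M} (hc : σ (u ^ 2 ^ (n - 1)) c = c) : X c = 0 := by
  refine H.eq_zero_of_neg hq2 ?_
  have := LinearMap.congr_fun hX c
  simpa [H.fix c hc] using this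

theorem s_eq_zero (H : PlaneTop σ u n s) (hq2 : q ≠ 2) (hn : n = 2)
    (hT : σ (u ^ 2 ^ (n - 1)) ≠ 1) : s = 0 := by
  obtain ⟨v, hv⟩ : ∃ v, σ (u ^ 2 ^ (n - 1)) v ≠ v := by
    by_contra h
    push Not at h
    exact hT (LinearMap.ext h)
  obtain ⟨c, p, rfl, hc, hp⟩ := H.decompose hq2 v
  have hp0 : p ≠ 0 := fun h => hv (by rw [h, add_zero, hc])
  have h1 := H.quad p hp
  have h2 : σ u (σ u p) = -p := by
    rw [← Module.End.mul_apply, ← map_mul, ← pow_two]
    rw [hn] at hp
    exact hp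
  rw [h2, eq_comm, sub_eq_iff_eq_add, neg_add_cancel] at h1
  by_contra hs
  have h3 : σ u p = 0 := (smul_eq_zero.1 h1).resolve_left hs
  rw [h3, map_zero, eq_comm, neg_eq_zero] at h2
  exact hp0 h2

theorem s_ne_zero (H : PlaneTop σ u n s) (hq2 : q ≠ 2) (hn : 3 ≤ n)
    (hT : σ (u ^ 2 ^ (n - 1)) ≠ 1) : s ≠ 0 := by
  intro hs
  refine hT (LinearMap.ext fun v => ?_)
  obtain ⟨c, p, rfl, hc, hp⟩ := H.decompose hq2 v
  have h4 : ∀ k, σ (u ^ (4 * k)) p = p := by
    intro k
    induction k with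
    | zero => simp
    | succ k ih =>
      have hp2 : σ (u ^ 2) p = -p := by
        rw [pow_two, map_mul, Module.End.mul_apply, H.quad p hp, hs, zero_smul, zero_sub]
      rw [mul_add, mul_one, pow_add, map_mul, Module.End.mul_apply,
        show σ (u ^ 4) p = p by
          rw [show 4 = 2 + 2 from rfl, pow_add, map_mul, Module.End.mul_apply, hp2, map_neg, hp2,
            neg_neg], ih]
  have h1 : σ (u ^ 2 ^ (n - 1)) p = p := by
    rw [show 2 ^ (n - 1) = 4 * 2 ^ (n - 3) by
      rw [show (4 : ℕ) = 2 ^ 2 from rfl, ← pow_add]; congr 1; omega]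
    exact h4 _
  rw [map_add, hc, h1, Module.End.one_apply]

/-- The conjugates of an operator under the powers of `u`. -/
def conjPow (σ : G →* Module.End (ZMod q) M) (u : G) (X : Module.End (ZMod q) M) (j : ℕ) :
    Module.End (ZMod q) M := σ (u ^ j) * X * σ (u⁻¹ ^ j)

theorem conj_conjPow (X : Module.End (ZMod q) M) (j : ℕ) :
    σ u * conjPow σ u X j = conjPow σ u X (j + 1) * σ u := by
  simp only [conjPow, mul_assoc, ← map_mul]
  rw [← mul_assoc (σ u), ← map_mul, ← pow_succ', pow_succ u⁻¹, inv_mul_cancel_right]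

/-- The recurrence of order five. -/
theorem quintic (H : PlaneTop σ u n s) (hq2 : q ≠ 2) (X : Module.End (ZMod q) M) :
    conjPow σ u X 5 = (s ^ 2 + s - 1) • conjPow σ u X 4 - (s ^ 3 + s ^ 2 - s) • conjPow σ u X 3 +
      (s ^ 3 + s ^ 2 - s) • conjPow σ u X 2 - (s ^ 2 + s - 1) • conjPow σ u X 1 +
      conjPow σ u X 0 := by
  refine LinearMap.ext fun v => ?_
  obtain ⟨c, p, rfl, hc, hp⟩ := H.decompose hq2 v
  have hcinv : σ u⁻¹ c = c := by
    conv_lhs => rw [← H.fix c hc]
    rw [← Module.End.mul_apply, ← map_mul, inv_mul_cancel, map_one, Module.End.one_apply]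
  have hinv : ∀ w, σ u⁻¹ (σ u w) = w := fun w => by
    rw [← Module.End.mul_apply, ← map_mul, inv_mul_cancel, map_one, Module.End.one_apply]
  have hpinv : σ u⁻¹ p = s • p - σ u p := by
    have h1 := congrArg (σ u⁻¹) (H.quad p hp)
    rw [hinv, map_sub, map_smul, hinv] at h1
    rw [h1]
    abel
  have h3 := fun w => H.cubic hq2 w
  have e : ∀ (f : Module.End (ZMod q) M) (w : M), (f ^ 0) w = w ∧ (f ^ 1) w = f w ∧
      (f ^ 2) w = f (f w) ∧ (f ^ 3) w = f (f (f w)) ∧ (f ^ 4) w = f (f (f (f w))) ∧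
      (f ^ 5) w = f (f (f (f (f w)))) := fun f w => ⟨rfl, by simp, by simp [pow_two],
    by simp [show 3 = 2 + 1 from rfl, pow_succ, pow_two],
    by simp [show 4 = 2 + 1 + 1 from rfl, pow_succ, pow_two],
    by simp [show 5 = 2 + 1 + 1 + 1 from rfl, pow_succ, pow_two]⟩
  simp only [conjPow, LinearMap.add_apply, LinearMap.sub_apply, LinearMap.smul_apply,
    Module.End.mul_apply, map_pow, (e (σ u) _).1, (e (σ u) _).2.1, (e (σ u) _).2.2.1,
    (e (σ u) _).2.2.2.1, (e (σ u) _).2.2.2.2.1, (e (σ u) _).2.2.2.2.2,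
    (e (σ u⁻¹) _).1, (e (σ u⁻¹) _).2.1, (e (σ u⁻¹) _).2.2.1,
    (e (σ u⁻¹) _).2.2.2.1, (e (σ u⁻¹) _).2.2.2.2.1, (e (σ u⁻¹) _).2.2.2.2.2,
    map_add, map_sub, map_smul, hcinv, hpinv, hinv]
  simp only [h3, map_add, map_sub, map_smul]
  module

/-- Orbits of length at least four. -/
theorem orbit_four (H : PlaneTop σ u n s) (hq2 : q ≠ 2) (hT : σ (u ^ 2 ^ (n - 1)) ≠ 1)
    (X : Module.End (ZMod q) M) {L : ℕ} (hL : L = 4 ∨ 6 ≤ L)
    (hind : LinearIndependent (ZMod q) (fun j : Fin L => conjPow σ u X j))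
    (hper : conjPow σ u X L = X ∨ conjPow σ u X L = -X) :
    n = 2 ∧ L = 4 ∧ σ u * (∑ j : Fin L, (-1 : ZMod q) ^ (j : ℕ) • conjPow σ u X j) =
      -((∑ j : Fin L, (-1 : ZMod q) ^ (j : ℕ) • conjPow σ u X j) * σ u) := by
  have h5 := H.quintic hq2 X
  rcases hL with rfl | hL
  swap
  · exfalso
    have hind6 := hind.comp (Fin.castLE hL) (Fin.castLE_injective _)
    have h0 := Fintype.linearIndependent_iff.1 hind6
      ![1, -(s ^ 2 + s - 1), s ^ 3 + s ^ 2 - s, -(s ^ 3 + s ^ 2 - s), s ^ 2 + s - 1, -1] (by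
        simp only [Fin.sum_univ_six, Function.comp_apply, Fin.val_castLE]
        simp only [Matrix.cons_val]
        simp only [Fin.val_zero, Fin.val_one, Fin.val_two,
          show ((3 : Fin 6) : ℕ) = 3 from rfl, show ((4 : Fin 6) : ℕ) = 4 from rfl,
          show ((5 : Fin 6) : ℕ) = 5 from rfl]
        rw [h5]
        module) 0
    simp at h0
  obtain ⟨ε, hε, hε2⟩ : ∃ ε : ZMod q, conjPow σ u X 4 = ε • X ∧ ε * ε = 1 := by
    rcases hper with h | h
    · exact ⟨1, by rw [h, one_smul], one_mul 1⟩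
    · exact ⟨-1, by rw [h, neg_one_smul], by ring⟩
  have hX0 : conjPow σ u X 0 = X := by simp [conjPow]
  have h5' : conjPow σ u X 5 = ε • conjPow σ u X 1 := by
    have h1 := conj_conjPow (σ := σ) (u := u) X 4
    rw [hε, mul_smul_comm] at h1
    have h2 := conj_conjPow (σ := σ) (u := u) X 0
    rw [hX0, zero_add] at h2
    rw [h2, ← smul_mul_assoc] at h1
    have h3 := congrArg (· * σ u⁻¹) h1
    simpa [mul_assoc, ← map_mul] using h3.symm
  have hcoef := Fintype.linearIndependent_iff.1 hind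
    ![(s ^ 2 + s - 1) * ε + 1, -(s ^ 2 + s - 1) - ε, s ^ 3 + s ^ 2 - s, -(s ^ 3 + s ^ 2 - s)] (by
      rw [h5', hε] at h5
      simp only [Fin.sum_univ_four, Matrix.cons_val, Fin.val_zero, Fin.val_one, Fin.val_two,
        show ((3 : Fin 4) : ℕ) = 3 from rfl, hX0]
      rw [hX0] at h5
      rw [← sub_eq_zero] at h5
      linear_combination (norm := module) -(1 : ℤ) • h5)
  have e1 : s ^ 2 + s - 1 = -ε := by
    have := hcoef 1
    simp at this
    linear_combination -this
  have e2 : s ^ 3 + s ^ 2 - s = 0 := by simpa using hcoef 2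
  have hs : s = 0 := by
    by_contra hs
    have e3 : s ^ 2 + s - 1 = 0 :=
      (mul_eq_zero.1 (show s * (s ^ 2 + s - 1) = 0 by linear_combination e2)).resolve_left hs
    rw [e3, eq_comm, neg_eq_zero] at e1
    rw [e1, mul_zero] at hε2
    exact zero_ne_one hε2
  have hε1 : ε = 1 := by rw [hs] at e1; linear_combination e1
  have hn : n = 2 := by
    by_contra hn
    have := H.two_le
    exact H.s_ne_zero hq2 (by omega) hT hs
  refine ⟨hn, rfl, ?_⟩
  have h1 := fun j => conj_conjPow (σ := σ) (u := u) X j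
  simp only [Fin.sum_univ_four, Fin.val_zero, Fin.val_one, Fin.val_two,
    show ((3 : Fin 4) : ℕ) = 3 from rfl, mul_add, add_mul, mul_smul_comm, smul_mul_assoc, h1]
  rw [hε, hε1, one_smul, hX0]
  simp only [zero_add]
  module

/-- The operators anticommuting with `u` form a space of dimension at most two. -/
theorem finrank_anti_le [Finite M] (H : PlaneTop σ u n s) (hq2 : q ≠ 2) (hn : n = 2)
    (hT : σ (u ^ 2 ^ (n - 1)) ≠ 1) (A : Submodule (ZMod q) (Module.End (ZMod q) M))
    (hA : ∀ X ∈ A, σ u * X = -(X * σ u)) : finrank (ZMod q) A ≤ 2 := by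
  haveI : Module.Finite (ZMod q) M := Module.Finite.of_finite
  have hs := H.s_eq_zero hq2 hn hT
  have hq3 := H.three hn
  have hT2 : ∀ v, σ (u ^ 2 ^ (n - 1)) v = σ u (σ u v) := fun v => by
    rw [hn, ← Module.End.mul_apply, ← map_mul, ← pow_two]; rfl
  set P := LinearMap.ker (σ (u ^ 2 ^ (n - 1)) + 1) with hP
  have hPmem : ∀ v, v ∈ P ↔ σ (u ^ 2 ^ (n - 1)) v = -v := fun v => by
    simp [hP, add_eq_zero_iff_eq_neg]
  obtain ⟨v, hv⟩ : ∃ v, σ (u ^ 2 ^ (n - 1)) v ≠ v := by
    by_contra h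
    push Not at h
    exact hT (LinearMap.ext h)
  obtain ⟨c, p, rfl, hc, hp⟩ := H.decompose hq2 v
  have hp0 : p ≠ 0 := fun h => hv (by rw [h, add_zero, hc])
  have hup : σ u (σ u p) = -p := by rw [← hT2, hp]
  have hind : LinearIndependent (ZMod q) ![p, σ u p] := by
    rw [LinearIndependent.pair_iff' hp0]
    intro a ha
    have h1 := congrArg (σ u) ha
    rw [map_smul, hup, ← ha, smul_smul, ← neg_one_smul (ZMod q) p] at h1
    have h2 : a * a = -1 := smul_left_injective (ZMod q) hp0 h1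
    subst hq3
    exact mul_self_ne_neg_one a h2
  have hspan : P = Submodule.span (ZMod q) (Set.range ![p, σ u p]) := by
    refine (Submodule.eq_of_le_of_finrank_le ?_ ?_).symm
    · rw [Submodule.span_le]
      rintro _ ⟨i, rfl⟩
      fin_cases i
      · exact (hPmem p).2 hp
      · refine (hPmem _).2 ?_
        show σ (u ^ 2 ^ (n - 1)) (σ u p) = -σ u p
        rw [hT2, hup, map_neg]
    · rw [finrank_span_eq_card hind]; exact H.dim
  have hcomm : ∀ X ∈ A, ∀ w, σ u (σ u (X w)) = X (σ u (σ u w)) := fun X hX w => by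
    have h1 := fun w => LinearMap.congr_fun (hA X hX) w
    simp only [Module.End.mul_apply, LinearMap.neg_apply] at h1
    rw [h1, map_neg, h1, neg_neg]
  let f : A →ₗ[ZMod q] P :=
    { toFun := fun X => ⟨(X : Module.End (ZMod q) M) p, (hPmem _).2 (by
        rw [hT2, hcomm X X.2, hup, map_neg])⟩
      map_add' := fun X Y => rfl
      map_smul' := fun a X => rfl }
  refine le_trans (LinearMap.finrank_le_finrank_of_injective (f := f)
    ((injective_iff_map_eq_zero f).2 fun X hX => ?_)) H.dim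
  have hXp : (X : Module.End (ZMod q) M) p = 0 := congrArg Subtype.val hX
  refine Subtype.ext (LinearMap.ext fun w => ?_)
  obtain ⟨c', p', rfl, hc', hp'⟩ := H.decompose hq2 w
  have hp'' : p' ∈ P := (hPmem p').2 hp'
  rw [hspan, Matrix.range_cons_cons_empty, Submodule.mem_span_pair] at hp''
  obtain ⟨a, b, rfl⟩ := hp''
  have hXu : (X : Module.End (ZMod q) M) (σ u p) = 0 := by
    have h1 := LinearMap.congr_fun (hA X X.2) p
    simp only [Module.End.mul_apply, LinearMap.neg_apply, hXp, map_zero] at h1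
    exact neg_eq_zero.1 h1.symm
  simp [H.anti_fixed hq2 (hA X X.2) hc', hXp, hXu]

end PlaneTop

end CfsgLib.PLocal.Gross
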