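import Cfsg.Agent.Lib.PLocal.Gross.PlaneTop
import Cfsg.Agent.Lib.KInf.Degree
import Cfsg.Agent.Lib.Base.MinimalNormal

/-!
In an irreducible solvable linear group all of whose normal abelian subgroups act as fields, the
involution of a quaternionic reflection of order `2 ^ n` lies in `O_2`.
-/

set_option autoImplicit false
set_option linter.style.haveILetI false
set_option linter.unusedSectionVars false

namespace CfsgLib.PLocal.Gross

open Module Cfsg CfsgLib.Base
open scoped commutatorElement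

/-- An element of prime power order of `F(G)` lies in the core of that prime. -/
theorem mem_pCore_of_mem_fitting {G : Type*} [Group G] [Finite G] {r : ℕ} [Fact r.Prime] {x : G}
    (hx : x ∈ fittingSubgroup G) {k : ℕ} (hk : x ^ r ^ k = 1) : x ∈ pCore r G := by
  haveI := isNilpotent_fittingSubgroup G
  have hp : IsPGroup r (Subgroup.zpowers (⟨x, hx⟩ : fittingSubgroup G)) := by
    obtain ⟨j, -, hj⟩ := (Nat.dvd_prime_pow Fact.out).1
      (orderOf_dvd_of_pow_eq_one (x := (⟨x, hx⟩ : fittingSubgroup G)) (Subtype.ext hk))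
    exact IsPGroup.of_card (n := j) (by rw [Nat.card_zpowers, hj])
  obtain ⟨P, hP⟩ := hp.exists_le_sylow
  haveI : (P : Subgroup (fittingSubgroup G)).Normal := inferInstance
  rw [← map_pCore_fittingSubgroup r G]
  exact ⟨⟨x, hx⟩, le_pCore P.2 (hP (Subgroup.mem_zpowers _)), rfl⟩

/-- The primes divide the orders of elements commuting with everything in their cores. -/
theorem commute_of_fitting {G : Type*} [Group G] [Finite G] {x h : G}
    (hx : x ∈ fittingSubgroup G)
    (hh : ∀ (r : ℕ) [Fact r.Prime], r ∣ orderOf x → ∀ w ∈ pCore r G, h * w = w * h) :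
    h * x = x * h := by
  suffices key : ∀ n, ∀ y ∈ fittingSubgroup G, orderOf y = n → n ∣ orderOf x → h * y = y * h from
    key _ x hx rfl dvd_rfl
  intro n
  induction n using Nat.recOnPosPrimePosCoprime with
  | prime_pow r k hr hk =>
    intro y hy hyn hdvd
    haveI := Fact.mk hr
    exact hh r ((dvd_pow_self r (by omega)).trans hdvd) y
      (mem_pCore_of_mem_fitting hy (hyn ▸ pow_orderOf_eq_one y))
  | zero =>
    intro y _ hy
    exact absurd hy (orderOf_pos y).ne'
  | one =>
    intro y _ hy _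
    rw [orderOf_eq_one_iff.1 hy, mul_one, one_mul]
  | coprime a b ha hb hab iha ihb =>
    intro y hy hyn hdvd
    have h1 : orderOf (y ^ b) = a := by
      rw [orderOf_pow' y (by omega), hyn, Nat.gcd_eq_right (dvd_mul_left b a),
        Nat.mul_div_cancel _ (by omega)]
    have h2 : orderOf (y ^ a) = b := by
      rw [orderOf_pow' y (by omega), hyn, Nat.gcd_eq_right (dvd_mul_right a b),
        Nat.mul_div_cancel_left _ (by omega)]
    have e1 : Commute h (y ^ b) :=
      iha _ (pow_mem hy b) h1 ((dvd_mul_right a b).trans hdvd)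
    have e2 : Commute h (y ^ a) :=
      ihb _ (pow_mem hy a) h2 ((dvd_mul_left b a).trans hdvd)
    have h3 : y = (y ^ b) ^ (Nat.gcdB a b) * (y ^ a) ^ (Nat.gcdA a b) := by
      rw [← zpow_natCast, ← zpow_natCast y a, ← zpow_mul, ← zpow_mul, ← zpow_add]
      have h4 := Nat.gcd_eq_gcd_ab a b
      rw [hab.gcd_eq_one] at h4
      rw [add_comm, ← h4, Nat.cast_one, zpow_one]
    rw [h3]
    exact ((e1.zpow_right _).mul_right (e2.zpow_right _)).eq

variable {q : ℕ} [Fact q.Prime] {M : Type*} [AddCommGroup M] [Module (ZMod q) M] [Finite M]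
variable {G : Type*} [Group G] [Finite G]
variable {σ : G →* Module.End (ZMod q) M} {u : G} {n : ℕ} {s : ZMod q}

/-- An irreducible faithful group has trivial `O_q`. -/
theorem pCore_eq_bot [Nontrivial M] (hinj : Function.Injective σ)
    (hirr : ∀ X : Submodule (ZMod q) M, (∀ g, ∀ v ∈ X, σ g v ∈ X) → X = ⊥ ∨ X = ⊤) :
    pCore q G = ⊥ := by
  classical
  letI : MulAction (pCore q G) M :=
    { smul := fun g v => σ g v
      one_smul := fun v => by
        show σ (1 : G) v = v
        rw [map_one, Module.End.one_apply]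
      mul_smul := fun g h v => by
        show σ ((g : G) * h) v = σ g (σ h v)
        rw [map_mul, Module.End.mul_apply] }
  let X : Submodule (ZMod q) M :=
    { carrier := {v | ∀ g : pCore q G, σ g v = v}
      add_mem' := fun {a b} ha hb g => by rw [map_add, ha, hb]
      zero_mem' := fun g => map_zero _
      smul_mem' := fun a v hv g => by rw [map_smul, hv] }
  have hXinv : ∀ g, ∀ v ∈ X, σ g v ∈ X := fun g v hv x => by
    have hn : g⁻¹ * (x : G) * g ∈ pCore q G := by
      simpa using (inferInstance : (pCore q G).Normal).conj_mem _ x.2 g⁻¹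
    have := hv ⟨_, hn⟩
    rw [← Module.End.mul_apply, ← map_mul, show (x : G) * g = g * (g⁻¹ * x * g) by group, map_mul,
      Module.End.mul_apply, this]
  have hq : q ∣ Nat.card M := by
    haveI : Module.Finite (ZMod q) M := Module.Finite.of_finite
    rw [Module.natCard_eq_pow_finrank (K := ZMod q) (V := M), Nat.card_zmod]
    exact dvd_pow_self q (finrank_pos).ne'
  obtain ⟨v, hv, hv0⟩ := (isPGroup_pCore q G).exists_fixed_point_of_prime_dvd_card_of_fixed_point
    M hq (a := 0) (fun g => map_zero (σ g))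
  rcases hirr X hXinv with h | h
  · exact absurd (show v ∈ X from hv) (by rw [h, Submodule.mem_bot]; exact hv0.symm)
  · refine (Subgroup.eq_bot_iff_forall _).2 fun g hg => hinj (LinearMap.ext fun w => ?_)
    have : w ∈ X := h ▸ Submodule.mem_top
    rw [map_one, Module.End.one_apply]
    exact this ⟨g, hg⟩

/-- `u` centralises every normal abelian subgroup acting as a field. -/
theorem commute_field (H : PlaneTop σ u n s) (hq2 : q ≠ 2) (hinj : Function.Injective σ)
    {c₀ : M} (hc₀ : σ (u ^ 2 ^ (n - 1)) c₀ = c₀) (hc₀0 : c₀ ≠ 0)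
    (A : Subgroup G) [A.Normal] (hA : ∀ a ∈ A, ∀ b ∈ A, a * b = b * a)
    (hdom : ∀ x ∈ Algebra.adjoin (ZMod q) (σ '' (A : Set G)), x ≠ 0 → Function.Injective x) :
    ∀ z ∈ A, u * z * u⁻¹ = z := by
  set k := Algebra.adjoin (ZMod q) (σ '' (A : Set G)) with hk
  have hcomm : ∀ a ∈ k, ∀ b ∈ k, Commute a b := by
    have h1 : k ≤ Subalgebra.centralizer (ZMod q) (σ '' (A : Set G)) :=
      Algebra.adjoin_le (by
        rintro _ ⟨a, ha, rfl⟩ _ ⟨b, hb, rfl⟩
        rw [← map_mul, ← map_mul, hA b hb a ha])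
    have h2 : k ≤ Subalgebra.centralizer (ZMod q) (k : Set (Module.End (ZMod q) M)) :=
      Algebra.adjoin_le (fun y hy z hz => ((h1 hz) y hy).symm)
    exact fun a ha b hb => ((h2 ha) b hb).symm
  have hkg : ∀ g : G, ∀ y ∈ k, σ g * y * σ g⁻¹ ∈ k := by
    intro g y hy
    induction hy using Algebra.adjoin_induction with
    | mem y hy =>
      obtain ⟨a, ha, rfl⟩ := hy
      rw [← map_mul, ← map_mul]
      exact Algebra.subset_adjoin ⟨_, Subgroup.Normal.conj_mem inferInstance a ha g, rfl⟩
    | algebraMap c =>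
      rw [← Algebra.commutes, mul_assoc, ← map_mul, mul_inv_cancel, map_one, mul_one]
      exact Subalgebra.algebraMap_mem _ c
    | add y z hy hz ihy ihz => rw [mul_add, add_mul]; exact add_mem ihy ihz
    | mul y z hy hz ihy ihz =>
      have h1 : σ g * (y * z) * σ g⁻¹ = σ g * y * σ g⁻¹ * (σ g * z * σ g⁻¹) := by
        simp only [mul_assoc]
        rw [← mul_assoc (σ g⁻¹) (σ g), ← map_mul σ g⁻¹ g, inv_mul_cancel, map_one, one_mul]
      rw [h1]; exact mul_mem ihy ihz
  -- no non-zero element anticommutes with a power of `u`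
  have key : ∀ b, ∀ a ∈ k, σ (u ^ 2 ^ b) * a = -(a * σ (u ^ 2 ^ b)) → a = 0 := by
    intro b
    induction b with
    | zero =>
      intro a ha hu
      by_contra ha0
      rw [pow_zero, pow_one] at hu
      have h1 := H.anti_fixed hq2 hu hc₀
      rw [← map_zero a] at h1
      exact hc₀0 (hdom a ha ha0 h1)
    | succ b ih =>
      intro a ha hu
      by_contra ha0
      set h := u ^ 2 ^ b with hh
      have hh2 : u ^ 2 ^ (b + 1) = h * h := by
        rw [hh, ← pow_add, ← two_mul, ← pow_succ']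
      set a₁ := σ h * a * σ h⁻¹ with ha₁
      have ha₁k : a₁ ∈ k := hkg h a ha
      have hhi : σ h⁻¹ * σ h = 1 := by rw [← map_mul, inv_mul_cancel, map_one]
      have hih : σ h * σ h⁻¹ = 1 := by rw [← map_mul, mul_inv_cancel, map_one]
      have ha2 : σ h * a₁ * σ h⁻¹ = -a := by
        rw [hh2, map_mul] at hu
        calc σ h * a₁ * σ h⁻¹ = σ h * σ h * a * (σ h⁻¹ * σ h⁻¹) := by simp [ha₁, mul_assoc]
          _ = -(a * (σ h * σ h)) * (σ h⁻¹ * σ h⁻¹) := by rw [hu]
          _ = -a := by
            rw [neg_mul, mul_assoc a, mul_assoc (σ h), ← mul_assoc (σ h) (σ h⁻¹), hih, one_mul,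
              hih, mul_one]
      have hconj : ∀ y, σ h * (y * y) * σ h⁻¹ = (σ h * y * σ h⁻¹) * (σ h * y * σ h⁻¹) := fun y => by
        simp only [mul_assoc]
        rw [← mul_assoc (σ h⁻¹) (σ h), hhi, one_mul]
      have hd := ih (a * a - a₁ * a₁) (sub_mem (mul_mem ha ha) (mul_mem ha₁k ha₁k)) (by
        have e1 : σ h * (a * a - a₁ * a₁) * σ h⁻¹ = -(a * a - a₁ * a₁) := by
          rw [mul_sub, sub_mul, hconj, hconj, ha2, ← ha₁, neg_mul_neg, neg_sub]
        have e2 := congrArg (· * σ h) e1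
        simp only [mul_assoc, hhi, mul_one, neg_mul] at e2
        exact e2)
      have hfac : (a₁ - a) * (a₁ + a) = 0 := by
        rw [sub_mul, mul_add, mul_add, (hcomm a ha a₁ ha₁k).eq]
        rw [sub_eq_zero] at hd
        rw [hd]; abel
      have hcase : a₁ = a ∨ a₁ = -a := by
        by_cases h0 : a₁ - a = 0
        · exact Or.inl (sub_eq_zero.1 h0)
        · refine Or.inr (eq_neg_of_add_eq_zero_left (LinearMap.ext fun v => ?_))
          have h1 := LinearMap.congr_fun hfac v
          rw [Module.End.mul_apply, LinearMap.zero_apply, ← map_zero (a₁ - a)] at h1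
          exact hdom _ (sub_mem ha₁k ha) h0 h1
      have h2a : a = -a := by
        rcases hcase with h1 | h1
        · rw [h1, ← ha₁, h1] at ha2; exact ha2
        · rw [h1, mul_neg, neg_mul, ← ha₁, h1, neg_neg] at ha2; exact ha2
      refine ha0 (LinearMap.ext fun v => ?_)
      have h3 : (2 : ZMod q) • a v = 0 := by
        rw [two_smul]
        nth_rewrite 1 [h2a]
        exact neg_add_cancel (a v)
      simpa using (smul_eq_zero.1 h3).resolve_left (PlaneTop.two_ne_zero' hq2)
  intro z hz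
  -- descend from the order of `u`
  suffices hall : ∀ j, ∀ b, b + j = n → σ (u ^ 2 ^ b) * σ z = σ z * σ (u ^ 2 ^ b) by
    have h := hall n 0 (by omega)
    rw [pow_zero, pow_one, ← map_mul, ← map_mul] at h
    rw [hinj h, mul_inv_cancel_right]
  intro j
  induction j with
  | zero =>
    intro b hb
    rw [add_zero] at hb
    rw [hb, H.pow_eq, map_one, one_mul, mul_one]
  | succ j ih =>
    intro b hb
    have h2 := ih (b + 1) (by omega)
    set h := u ^ 2 ^ b with hh
    have hh2 : u ^ 2 ^ (b + 1) = h * h := by rw [hh, ← pow_add, ← two_mul, ← pow_succ']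
    rw [hh2, map_mul] at h2
    have hhi : σ h⁻¹ * σ h = 1 := by rw [← map_mul, inv_mul_cancel, map_one]
    have hzk : σ z ∈ k := Algebra.subset_adjoin ⟨z, hz, rfl⟩
    have ha := key b (σ z - σ h * σ z * σ h⁻¹) (sub_mem hzk (hkg h _ hzk)) (by
      rw [← hh]
      simp only [mul_sub, sub_mul, mul_assoc, hhi, mul_one, neg_sub]
      congr 1
      calc σ h * (σ h * (σ z * σ h⁻¹)) = σ h * σ h * σ z * σ h⁻¹ := by simp [mul_assoc]
        _ = σ z * (σ h * σ h) * σ h⁻¹ := by rw [h2]
        _ = σ z * σ h := by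
          rw [mul_assoc, mul_assoc (σ h), ← map_mul σ h h⁻¹, mul_inv_cancel, map_one, mul_one])
    rw [sub_eq_zero] at ha
    conv_rhs => rw [ha]
    rw [mul_assoc, hhi, mul_one]

/-- Conjugates of coset representatives of a class two subgroup are independent. -/
theorem independent_of_cosets [Nontrivial M] (hinj : Function.Injective σ) {r : ℕ} [Fact r.Prime] (hrq : r ≠ q)
    (C : Subgroup G) (hCr : IsPGroup r C)
    (hC2 : ∀ a ∈ C, ∀ b ∈ C, ⁅a, b⁆ ∈ C ⊓ Subgroup.centralizer (C : Set G))
    (hdom : ∀ x ∈ Algebra.adjoin (ZMod q)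
      (σ '' ((C ⊓ Subgroup.centralizer (C : Set G) : Subgroup G) : Set G)),
      x ≠ 0 → Function.Injective x) {ι : Type*} [Fintype ι] (x : ι → G) (hx : ∀ i, x i ∈ C)
    (hne : ∀ i j, i ≠ j → x i * (x j)⁻¹ ∉ Subgroup.centralizer (C : Set G)) :
    LinearIndependent (ZMod q) (fun i => σ (x i)) := by
  classical
  haveI : Fintype C := Fintype.ofFinite _
  rw [Fintype.linearIndependent_iff]
  intro a ha i₀
  have hcomm : ∀ y ∈ C, y ∉ Subgroup.centralizer (C : Set G) →
      ∑ c : C, σ ⁅(c : G), y⁆ = 0 := by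
    intro y hy hyn
    obtain ⟨c₀, hc₀, hne₀⟩ : ∃ c₀ ∈ C, ⁅c₀, y⁆ ≠ 1 := by
      by_contra hall
      push Not at hall
      exact hyn (Subgroup.mem_centralizer_iff.2 fun c hc =>
        commutatorElement_eq_one_iff_mul_comm.1 (hall c hc))
    set S := ∑ c : C, σ ⁅(c : G), y⁆ with hS
    have h1 : σ ⁅c₀, y⁆ * S = S := by
      rw [hS, Finset.mul_sum]
      refine Fintype.sum_equiv (Equiv.mulLeft (⟨c₀, hc₀⟩ : C)) _ _ fun c => ?_
      show σ ⁅c₀, y⁆ * σ ⁅(c : G), y⁆ = σ ⁅c₀ * (c : G), y⁆
      rw [← map_mul, commutatorElement_mul_left_eq_conj_mul]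
      have e1 := Subgroup.mem_centralizer_iff.1 (hC2 c c.2 y hy).2 c₀ hc₀
      rw [e1, mul_inv_cancel_right,
        Subgroup.mem_centralizer_iff.1 (hC2 c₀ hc₀ y hy).2 _ (hC2 c c.2 y hy).1]
    refine LinearMap.ext fun v => ?_
    have h2 := LinearMap.congr_fun h1 v
    rw [Module.End.mul_apply] at h2
    have h3 : σ ⁅c₀, y⁆ - 1 ≠ 0 := fun h => hne₀ (hinj (by rw [sub_eq_zero.1 h, map_one]))
    refine hdom _ (sub_mem (Algebra.subset_adjoin ⟨_, hC2 c₀ hc₀ y hy, rfl⟩) (one_mem _)) h3 ?_
    rw [LinearMap.sub_apply, Module.End.one_apply, h2, sub_self, LinearMap.zero_apply, map_zero]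
  have h2 := congrArg (fun y => ∑ c : C, σ (c : G) * (y * σ (x i₀)⁻¹) * σ (c : G)⁻¹) ha
  simp only [Finset.sum_mul, Finset.mul_sum, smul_mul_assoc, mul_smul_comm, zero_mul, mul_zero,
    Finset.sum_const_zero, ← map_mul] at h2
  rw [Finset.sum_comm, Finset.sum_eq_single i₀ (fun i _ hi => ?_)
    (fun h => absurd (Finset.mem_univ _) h)] at h2
  · simp only [mul_inv_cancel, mul_one, map_one, Finset.sum_const, Finset.card_univ] at h2
    rw [← Nat.cast_smul_eq_nsmul (ZMod q), smul_smul] at h2
    refine (mul_eq_zero.1 ((smul_eq_zero.1 h2).resolve_right one_ne_zero)).resolve_left ?_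
    rw [← Nat.card_eq_fintype_card]
    obtain ⟨m, hm⟩ := IsPGroup.iff_card.1 hCr
    rw [hm, Nat.cast_pow]
    refine pow_ne_zero _ fun h => hrq ?_
    rw [CharP.cast_eq_zero_iff (ZMod q) q r] at h
    exact ((Nat.prime_dvd_prime_iff_eq Fact.out Fact.out).1 h).symm
  · have e : ∀ c : C, σ ((c : G) * (x i * (x i₀)⁻¹) * (c : G)⁻¹) =
        σ ⁅(c : G), x i * (x i₀)⁻¹⁆ * σ (x i * (x i₀)⁻¹) := fun c => by
      rw [← map_mul]
      congr 1
      rw [commutatorElement_def]
      group
    simp only [e, ← Finset.smul_sum, ← Finset.sum_mul, hcomm _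
      (mul_mem (hx i) (inv_mem (hx i₀))) (hne i i₀ hi), zero_mul, smul_zero]

end CfsgLib.PLocal.Gross
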